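import Cfsg.Agent.Lib.Walter.Comb.Torus

/-!
# An abelian normal subgroup with a non-trivial idempotent

If the ring generated by an abelian normal subgroup without fixed vectors has an idempotent other
than `0, 1`, every torus element fixes all conjugates of a minimal idempotent, and the fixed spaces
of two torus elements meet.
-/

set_option autoImplicit false
set_option linter.style.haveILetI false

namespace Cfsg.Agent.Lib.Walter.Comb

variable {V : Type*} [AddCommGroup V]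

/-- An abelian normal subgroup of `G` without fixed vectors. -/
structure AbNormal (G A : Subgroup (AddMonoid.End V)ˣ) : Prop where
  le : A ≤ G
  conj : ∀ g ∈ G, ∀ a ∈ A, g * a * g⁻¹ ∈ A
  comm : ∀ a ∈ A, ∀ b ∈ A, a * b = b * a
  nofix : ∀ v : V, (∀ a ∈ A, (a : AddMonoid.End V) v = v) → v = 0

variable [Finite V]

/-- A minimal idempotent. -/
theorem exists_atom {R : Subring (AddMonoid.End V)} (hc : ∀ p ∈ R, ∀ q ∈ R, p * q = q * p)
    (hid : ∃ e ∈ R, e * e = e ∧ e ≠ 0 ∧ e ≠ 1) :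
    ∃ ε ∈ R, ε * ε = ε ∧ ε ≠ 0 ∧ ε ≠ 1 ∧
      ∀ f ∈ R, f * f = f → ε * f = 0 ∨ ε * f = ε := by
  classical
  let size : AddMonoid.End V → ℕ := fun e => Nat.card ↥(e : V →+ V).range
  have hP : ∃ n, ∃ e ∈ R, e * e = e ∧ e ≠ 0 ∧ e ≠ 1 ∧ size e = n := by
    obtain ⟨e, he⟩ := hid
    exact ⟨_, e, he.1, he.2.1, he.2.2.1, he.2.2.2, rfl⟩
  obtain ⟨ε, hεR, hε, hε0, hε1, hsize⟩ := Nat.find_spec hP
  refine ⟨ε, hεR, hε, hε0, hε1, fun f hfR hf => ?_⟩
  by_cases h0 : ε * f = 0
  · exact .inl h0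
  right
  have hm : ε * f * (ε * f) = ε * f := by
    rw [mul_assoc, ← mul_assoc f, hc f hfR ε hεR, mul_assoc ε f f, hf, ← mul_assoc, hε]
  have hεm : ε * (ε * f) = ε * f := by rw [← mul_assoc, hε]
  have hm1 : ε * f ≠ 1 := fun h => hε1 (by rwa [h, mul_one] at hεm)
  have hle : (ε * f : V →+ V).range ≤ (ε : V →+ V).range := by
    rintro _ ⟨v, rfl⟩; exact ⟨f v, rfl⟩
  have hge : size ε ≤ size (ε * f) := by
    rw [hsize]
    exact Nat.find_le ⟨_, R.mul_mem hεR hfR, hm, h0, hm1, rfl⟩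
  have heq := AddSubgroup.eq_of_le_of_card_ge hle hge
  refine AddMonoidHom.ext fun v => ?_
  have hv : ε v ∈ (ε * f : V →+ V).range := by rw [heq]; exact ⟨v, rfl⟩
  obtain ⟨u, hu⟩ := hv
  have hu' : (ε * f) u = ε v := hu
  calc (ε * f) v = (ε * f * ε) v := by
        rw [mul_assoc, hc f hfR ε hεR, ← mul_assoc, hε]
    _ = (ε * f) (ε v) := rfl
    _ = (ε * f * (ε * f)) u := by rw [← hu']; rfl
    _ = ε v := by rw [hm]; exact hu'

/-- A torus element fixes every conjugate of a minimal idempotent. -/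
theorem commute_atom {G A : Subgroup (AddMonoid.End V)ˣ} (hG : Irr G) (hA : AbNormal G A)
    {t : (AddMonoid.End V)ˣ} {W Q : AddSubgroup V} (ht : t ∈ G) (hT : IsTor t W Q)
    {O : Set (AddMonoid.End V)} (hO : ∀ g ∈ G, ∀ η ∈ O, cj g η ∈ O)
    (horth : ∀ η ∈ O, ∀ η' ∈ O, η ≠ η' → η * η' = 0)
    (hO1 : ∀ η ∈ O, η ∈ alg A ∧ η * η = η ∧ η ≠ 0)
    {η : AddMonoid.End V} (hη : η ∈ O) : cj t η = η := by
  haveI := end_finite (V := V)
  by_contra hne
  set s := (t : AddMonoid.End V) with hs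
  set η1 := cj t η with hη1
  set η2 := cj t η1 with hη2
  have hO_1 : η1 ∈ O := hO t ht η hη
  have hO_2 : η2 ∈ O := hO t ht η1 hO_1
  have h21 : η2 ≠ η1 := fun h => hne (cj_inj t h)
  have h20 : η2 ≠ η := by
    intro h
    obtain ⟨m, hm⟩ := exists_sq_pow hG.odd ht
    refine hne ?_
    rw [hη1, cj_eq_iff, ← hm]
    have hc2 : Commute η ((t ^ 2 : (AddMonoid.End V)ˣ) : AddMonoid.End V) := by
      show η * _ = _ * η
      rw [← cj_eq_iff, pow_two, cj_mul]
      exact h
    rw [Units.val_pow_eq_pow_val]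
    exact (hc2.pow_right m).eq
  have idem : ∀ ζ ∈ O, ∀ v, ζ (ζ v) = ζ v := fun ζ hζ v => DFunLike.congr_fun (hO1 ζ hζ).2.1 v
  have kill : ∀ ζ ∈ O, ∀ ζ' ∈ O, ζ ≠ ζ' → ∀ v, ζ' v = v → ζ v = 0 := fun ζ hζ ζ' hζ' h v hv => by
    rw [← hv]; exact DFunLike.congr_fun (horth ζ hζ ζ' hζ' h) v
  have push : ∀ (ζ : AddMonoid.End V) (v : V), ζ v = v → cj t ζ (s v) = s v := fun ζ v hv => by
    rw [hs, cj_apply, hv]
  obtain ⟨v0, hv0⟩ : ∃ v, η v ≠ 0 := by
    by_contra h; push Not at h; exact (hO1 η hη).2.2 (AddMonoidHom.ext h)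
  set v := η v0 with hv
  have hηv : η v = v := idem η hη v0
  have h1v : η1 (s v) = s v := push η v hηv
  have h2v : η2 (s (s v)) = s (s v) := push η1 (s v) h1v
  have hdiff : ∀ z, z + s z ∈ W := fun z => by
    rw [add_comm, ← sub_self_eq hG.two]; exact hT.diff_mem z
  have hx : v + s v ∈ W := hdiff v
  have hηx : η (v + s v) = v := by
    rw [map_add, hηv, kill η hη η1 hO_1 (Ne.symm hne) _ h1v, add_zero]
  have hx0 : v + s v ≠ 0 := fun h => hv0 (by rw [← hηx, h, map_zero])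
  have hy : v + s (s v) ∈ W := by
    have : v + s (s v) = (v + s v) + (s v + s (s v)) := by
      rw [add_assoc, ← add_assoc (s v), hG.two, zero_add]
    rw [this]; exact W.add_mem hx (hdiff _)
  have hy0 : v + s (s v) ≠ 0 := fun h => hv0 (by
    have h' := congrArg η h
    rwa [map_add, map_zero, hηv, kill η hη η2 hO_2 h20.symm _ h2v, add_zero] at h')
  obtain ⟨j, hj⟩ := hT.trans _ hx hx0 _ hy hy0
  set ζ := cj (t ^ j) η with hζ
  have hO_z : ζ ∈ O := hO _ (pow_mem ht j) η hη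
  set ζ1 := cj t ζ with hζ1
  have hO_z1 : ζ1 ∈ O := hO t ht ζ hO_z
  have hz1 : ζ1 = cj (t ^ j) η1 := by
    rw [hζ1, hζ, hη1, ← cj_mul, ← cj_mul, pow_mul_comm']
  have hne1 : ζ ≠ ζ1 := fun h => hne (cj_inj (t ^ j) (by rw [← hz1, ← hη1] at *; exact h.symm))
  have ha : ζ ((s ^ j) v) = (s ^ j) v := by
    rw [hζ, hs, ← Units.val_pow_eq_pow_val, cj_apply, hηv]
  have hb : ζ1 ((s ^ (j + 1)) v) = (s ^ (j + 1)) v := by
    rw [pow_succ']; exact push ζ _ ha
  rw [map_add, show (s ^ j) (s v) = (s ^ (j + 1)) v by rw [pow_succ]; rfl] at hj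
  set a := (s ^ j) v with hadef
  set b := (s ^ (j + 1)) v with hbdef
  have hv_ne : v ≠ 0 := hv0
  have pow_ne : ∀ m : ℕ, (s ^ m) v ≠ 0 := fun m h => hv_ne (by
    rw [hs, ← Units.val_pow_eq_pow_val] at h
    have h' := congrArg ((↑(t ^ m)⁻¹ : AddMonoid.End V)) h
    rwa [map_zero, show (↑(t ^ m)⁻¹ : AddMonoid.End V) ((↑(t ^ m) : AddMonoid.End V) v) = v from
      DFunLike.congr_fun (t ^ m).inv_mul v] at h')
  have hcase : ζ = η ∨ ζ = η2 := by
    by_contra h
    push Not at h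
    refine pow_ne j ?_
    have h' := congrArg ζ hj
    rwa [map_add, map_add, ha, kill ζ hO_z ζ1 hO_z1 hne1 _ hb,
      kill ζ hO_z η hη h.1 _ hηv, kill ζ hO_z η2 hO_2 h.2 _ h2v, add_zero, add_zero] at h'
  have hcase1 : ζ1 = η ∨ ζ1 = η2 := by
    by_contra h
    push Not at h
    refine pow_ne (j + 1) ?_
    have h' := congrArg ζ1 hj
    rwa [map_add, map_add, hb, kill ζ1 hO_z1 ζ hO_z hne1.symm _ ha,
      kill ζ1 hO_z1 η hη h.1 _ hηv, kill ζ1 hO_z1 η2 hO_2 h.2 _ h2v, zero_add, add_zero] at h'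
  have hζ2 : ζ = η2 := hcase.resolve_left fun h => by
    rcases hcase1 with h1 | h1
    · exact hne1 (h.trans h1.symm)
    · exact h21 (h1.symm.trans (by rw [hζ1, h]))
  have h3 : cj t η2 = η := by
    rcases hcase1 with h1 | h1
    · rwa [hζ1, hζ2] at h1
    · exact absurd (hζ2.trans h1.symm) hne1
  have h3v : ∀ z, η z = z → η (s (s (s z))) = s (s (s z)) := fun z hz => by
    have := push η2 _ (push η1 _ (push η z hz))
    rwa [h3] at this
  -- `t ^ 3` fixes `v`
  have ht3 : s (s (s v)) = v := by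
    by_contra h
    set u := v + s (s (s v)) with hu
    have hu0 : u ≠ 0 := fun h0 => h (by
      rw [hu, ← sub_self_eq hG.two, sub_eq_zero] at h0; exact h0.symm)
    have huW : u ∈ W := by
      have : u = (v + s (s v)) + (s (s v) + s (s (s v))) := by
        rw [hu, add_assoc, ← add_assoc (s (s v)), hG.two, zero_add]
      rw [this]; exact W.add_mem hy (hdiff _)
    have hηu : η u = u := by rw [hu, map_add, hηv, h3v v hηv]
    obtain ⟨i, hi⟩ := hT.trans u huW hu0 _ hx hx0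
    set θ := cj (t ^ i) η with hθ
    have hθx : θ (v + s v) = v + s v := by
      rw [← hi, hθ, ← Units.val_pow_eq_pow_val, cj_apply, hηu]
    by_cases hθη : θ = η
    · rw [hθη, hηx] at hθx
      have hsv : s v = 0 := by simpa using hθx.symm
      exact pow_ne 1 (by rw [pow_one]; exact hsv)
    · exact hv0 (by rw [← hηx]; exact kill η hη θ (hO _ (pow_mem ht i) η hη) (Ne.symm hθη) _ hθx)
  have hred : ∀ m : ℕ, (s ^ m) v = v ∨ (s ^ m) v = s v ∨ (s ^ m) v = s (s v) := by
    intro m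
    induction m with
    | zero => exact .inl rfl
    | succ m ih =>
      rw [pow_succ']
      show s ((s ^ m) v) = v ∨ s ((s ^ m) v) = s v ∨ s ((s ^ m) v) = s (s v)
      rcases ih with h | h | h <;> rw [h]
      · exact .inr (.inl rfl)
      · exact .inr (.inr rfl)
      · exact .inl ht3
  have hηs : η (s v) = 0 := kill η hη η1 hO_1 (Ne.symm hne) _ h1v
  have hηss : η (s (s v)) = 0 := kill η hη η2 hO_2 h20.symm _ h2v
  -- the range of `η` is `{0, v}`
  have hrange : ∀ z, η z = z → z = 0 ∨ z = v := by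
    intro z hz
    by_cases hz0 : z = 0
    · exact .inl hz0
    right
    have hηz : η (z + s z) = z := by
      rw [map_add, hz, kill η hη η1 hO_1 (Ne.symm hne) _ (push η z hz), add_zero]
    obtain ⟨i, hi⟩ := hT.trans _ hx hx0 (z + s z) (hdiff z)
      (fun h => hz0 (by rw [← hηz, h, map_zero]))
    rw [← hi] at hηz
    rcases hred i with h | h | h
    all_goals
      rw [map_add, show (s ^ i) (s v) = s ((s ^ i) v) from
        DFunLike.congr_fun ((Commute.self_pow s i).symm.eq) v, h, map_add] at hηz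
    · rw [hηv, hηs, add_zero] at hηz; exact hηz.symm
    · rw [hηs, hηss, add_zero] at hηz; exact absurd hηz.symm hz0
    · rw [ht3, hηss, hηv, zero_add] at hηz; exact hηz.symm
  refine hv_ne (hA.nofix v fun a ha => ?_)
  have hca : η * (a : AddMonoid.End V) = (a : AddMonoid.End V) * η :=
    alg_comm hA.comm η (hO1 η hη).1 a (mem_alg ha)
  have hav : η ((a : AddMonoid.End V) v) = (a : AddMonoid.End V) v := by
    rw [show η ((a : AddMonoid.End V) v) = (a : AddMonoid.End V) (η v) from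
      DFunLike.congr_fun hca v, hηv]
  refine (hrange _ hav).resolve_left fun h => hv_ne ?_
  have h' := congrArg (↑a⁻¹ : AddMonoid.End V) h
  rwa [map_zero, show (↑a⁻¹ : AddMonoid.End V) ((a : AddMonoid.End V) v) = v from
    DFunLike.congr_fun a.inv_mul v] at h'

/-- Two fixed spaces of torus elements meet. -/
theorem inter_of_idem {G A : Subgroup (AddMonoid.End V)ˣ} (hG : Irr G) (hA : AbNormal G A)
    (hid : ∃ e ∈ alg A, e * e = e ∧ e ≠ 0 ∧ e ≠ 1)
    {t t' : (AddMonoid.End V)ˣ} {W Q W' Q' : AddSubgroup V} (ht : t ∈ G) (hT : IsTor t W Q)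
    (ht' : t' ∈ G) (hT' : IsTor t' W' Q') : ∃ v ∈ Q, v ∈ Q' ∧ v ≠ 0 := by
  haveI := end_finite (V := V)
  obtain ⟨ε, hεR, hε, hε0, hε1, hatom⟩ := exists_atom (alg_comm hA.comm) hid
  set O : Set (AddMonoid.End V) := {η | ∃ g ∈ G, cj g ε = η} with hOdef
  have hO : ∀ g ∈ G, ∀ η ∈ O, cj g η ∈ O := by
    rintro g hg _ ⟨k, hk, rfl⟩
    exact ⟨g * k, mul_mem hg hk, cj_mul g k ε⟩
  have hO1 : ∀ η ∈ O, η ∈ alg A ∧ η * η = η ∧ η ≠ 0 := by
    rintro _ ⟨k, hk, rfl⟩
    exact ⟨cj_mem_alg (hA.conj k hk) hεR, by rw [← cj_map_mul, hε],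
      fun h => hε0 (cj_inj k (by rw [h, cj_map_zero]))⟩
  have hmin : ∀ η ∈ O, ∀ f ∈ alg A, f * f = f → η * f = 0 ∨ η * f = η := by
    rintro _ ⟨k, hk, rfl⟩ f hf hff
    have key : cj k⁻¹ f ∈ alg A := cj_mem_alg (hA.conj _ (inv_mem hk)) hf
    have hf' : f = cj k (cj k⁻¹ f) := by rw [← cj_mul, mul_inv_cancel, cj_one]
    rcases hatom _ key (by rw [← cj_map_mul, hff]) with h | h
    · left; rw [hf', ← cj_map_mul, h, cj_map_zero]
    · right; rw [hf', ← cj_map_mul, h]
  have horth : ∀ η ∈ O, ∀ η' ∈ O, η ≠ η' → η * η' = 0 := by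
    intro η hη η' hη' hne
    obtain ⟨hR, hi, -⟩ := hO1 η hη
    obtain ⟨hR', hi', -⟩ := hO1 η' hη'
    rcases hmin η hη η' hR' hi' with h | h
    · exact h
    rcases hmin η' hη' η hR hi with h' | h'
    · rw [alg_comm hA.comm η hR η' hR', h']
    · exact absurd (h.symm.trans ((alg_comm hA.comm η hR η' hR').trans h')) hne
  have hεO : ε ∈ O := ⟨1, one_mem _, cj_one ε⟩
  -- some vector of `V` is not killed, so no non-zero vector is killed by all of `O`
  have hker : ∀ x : V, (∀ η ∈ O, η x = 0) → x = 0 := by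
    intro x hx
    let U : AddSubgroup V :=
      { carrier := {z | ∀ η ∈ O, η z = 0}
        zero_mem' := fun η _ => map_zero η
        add_mem' := fun {a b} ha hb η hη => by rw [map_add, ha η hη, hb η hη, add_zero]
        neg_mem' := fun {a} ha η hη => by rw [map_neg, ha η hη, neg_zero] }
    rcases hG.irr U (fun g hg z hz η hη => by
      have := cj_apply g (cj g⁻¹ η) z
      rw [← cj_mul, mul_inv_cancel, cj_one, hz _ (hO _ (inv_mem hg) η hη), map_zero] at this
      exact this) with h | h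
    · have : x ∈ U := hx
      rwa [h, AddSubgroup.mem_bot] at this
    · exact absurd (AddMonoidHom.ext fun z => (h ▸ AddSubgroup.mem_top z : z ∈ U) ε hεO) hε0
  -- each torus element leaves all but one atom inside its fixed space
  have hcover : ∀ {t : (AddMonoid.End V)ˣ} {W Q : AddSubgroup V}, t ∈ G → IsTor t W Q →
      ∃ η₀ ∈ O, ∀ η ∈ O, η ≠ η₀ → ∀ z, η z ∈ Q := by
    intro t W Q ht hT
    have hcom : ∀ η ∈ O, η * (t : AddMonoid.End V) = (t : AddMonoid.End V) * η := fun η hη =>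
      (cj_eq_iff t η).1 (commute_atom hG hA ht hT hO horth hO1 hη)
    obtain ⟨w0, hw0, hw00⟩ := hT.exists_ne_zero
    obtain ⟨η₀, hη₀, hne⟩ : ∃ η ∈ O, η w0 ≠ 0 := by
      by_contra h; push Not at h; exact hw00 (hker w0 h)
    refine ⟨η₀, hη₀, fun η hη hηne z => hT.mem_Q ?_⟩
    have hW : ∀ w ∈ W, η₀ w = w := by
      intro w hw
      by_cases h0 : w = 0
      · rw [h0, map_zero]
      have hfix : η₀ (η₀ w0) = η₀ w0 := DFunLike.congr_fun (hO1 η₀ hη₀).2.1 w0
      obtain ⟨j, hj⟩ := hT.trans _ (hT.map_W (hcom η₀ hη₀) hw0) hne w hw h0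
      rw [← hj, show η₀ (((t : AddMonoid.End V) ^ j) (η₀ w0))
        = ((t : AddMonoid.End V) ^ j) (η₀ (η₀ w0)) from
          DFunLike.congr_fun ((Commute.pow_right (hcom η₀ hη₀) j).eq) _, hfix]
    have hd := hT.diff_mem (η z)
    have hzero : η ((t : AddMonoid.End V) (η z) - η z) = 0 := by
      rw [← hW _ hd]; exact DFunLike.congr_fun (horth η hη η₀ hη₀ hηne) _
    rw [map_sub, show η ((t : AddMonoid.End V) (η z)) = (t : AddMonoid.End V) (η (η z)) from
      DFunLike.congr_fun (hcom η hη) _,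
      show η (η z) = η z from DFunLike.congr_fun (hO1 η hη).2.1 z, sub_eq_zero] at hzero
    exact hzero
  obtain ⟨η₁, hη₁, h₁⟩ := hcover ht hT
  obtain ⟨η₂, hη₂, h₂⟩ := hcover ht' hT'
  obtain ⟨g, hg, hmove⟩ : ∃ g ∈ G, cj g ε ≠ ε := by
    by_contra h
    push Not at h
    rcases hG.irr (ε : V →+ V).range (fun g hg z hz => by
      obtain ⟨y, rfl⟩ := hz
      refine ⟨(g : AddMonoid.End V) y, ?_⟩
      show ε ((g : AddMonoid.End V) y) = (g : AddMonoid.End V) (ε y)
      conv_lhs => rw [← h g hg]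
      exact cj_apply g ε y) with h' | h'
    · refine hε0 (AddMonoidHom.ext fun z => ?_)
      have : ε z ∈ (ε : V →+ V).range := ⟨z, rfl⟩
      rwa [h', AddSubgroup.mem_bot] at this
    · refine hε1 (AddMonoidHom.ext fun z => ?_)
      have : z ∈ (ε : V →+ V).range := h' ▸ AddSubgroup.mem_top z
      obtain ⟨y, rfl⟩ := this
      exact DFunLike.congr_fun hε y
  obtain ⟨η₃, hη₃, h31, h32⟩ : ∃ η ∈ O, η ≠ η₁ ∧ η ≠ η₂ := by
    set a := cj g ε
    set b := cj g a with hb
    have hab : b ≠ a := fun h => hmove (cj_inj g h)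
    have hεb : b ≠ ε := by
      intro h
      obtain ⟨m, hm⟩ := exists_sq_pow hG.odd hg
      refine hmove ((cj_eq_iff g ε).2 ?_)
      have hc2 : Commute ε ((g ^ 2 : (AddMonoid.End V)ˣ) : AddMonoid.End V) := by
        show ε * _ = _ * ε
        rw [← cj_eq_iff, pow_two, cj_mul]
        exact h
      rw [← hm, Units.val_pow_eq_pow_val]
      exact (hc2.pow_right m).eq
    have haO : a ∈ O := hO g hg ε hεO
    have hbO : b ∈ O := hO g hg a haO
    by_contra h
    push Not at h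
    rcases em (ε = η₁) with e | e
    · have a2 := h a haO (fun h1 => hmove (h1.trans e.symm))
      have b2 := h b hbO (fun h1 => hεb (h1.trans e.symm))
      exact hab (b2.trans a2.symm)
    · have e2 := h ε hεO e
      rcases em (a = η₁) with ea | ea
      · exact hεb ((h b hbO (fun h1 => hab (h1.trans ea.symm))).trans e2.symm)
      · exact hmove ((h a haO ea).trans e2.symm)
  obtain ⟨z, hz⟩ : ∃ z, η₃ z ≠ 0 := by
    by_contra h; push Not at h; exact (hO1 η₃ hη₃).2.2 (AddMonoidHom.ext h)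
  exact ⟨η₃ z, h₁ η₃ hη₃ h31 z, h₂ η₃ hη₃ h32 z, hz⟩

end Cfsg.Agent.Lib.Walter.Comb
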