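import Cfsg.Agent.Lib.Walter.Comb.Quad
import Mathlib.GroupTheory.QuotientGroup.Basic

/-!
# Two quadratic elements of a solvable group of odd order commute: the statement for arbitrary spaces
-/

set_option autoImplicit false
set_option linter.style.haveILetI false

namespace Cfsg.Agent.Lib.Walter.Comb

universe u

variable {V : Type u} [AddCommGroup V] [Finite V]

/-- Units preserving a subgroup. -/
def preservers (U : AddSubgroup V) : Subgroup (AddMonoid.End V)ˣ where
  carrier := {x | ∀ v, v ∈ U ↔ (x : AddMonoid.End V) v ∈ U}
  one_mem' := fun _ => Iff.rfl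
  mul_mem' := fun {x y} hx hy v => (hy v).trans (hx _)
  inv_mem' := fun {x} hx v => by
    have h := hx ((↑x⁻¹ : AddMonoid.End V) v)
    rw [show (x : AddMonoid.End V) ((↑x⁻¹ : AddMonoid.End V) v) = v from
      DFunLike.congr_fun x.mul_inv v] at h
    exact h.symm

theorem mem_preservers {U : AddSubgroup V} {x : (AddMonoid.End V)ˣ}
    (hx : ∀ v ∈ U, (x : AddMonoid.End V) v ∈ U) : x ∈ preservers U := by
  intro v
  refine ⟨hx v, fun hv => ?_⟩
  let f : U → U := fun w => ⟨(x : AddMonoid.End V) w, hx w w.2⟩
  have hinj : Function.Injective (fun w : V => (x : AddMonoid.End V) w) :=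
    Function.LeftInverse.injective (g := fun w => (↑x⁻¹ : AddMonoid.End V) w)
      fun w => DFunLike.congr_fun x.inv_mul w
  have hf : Function.Injective f := fun a b h => Subtype.ext (hinj (congrArg Subtype.val h))
  obtain ⟨w, hw⟩ := Finite.surjective_of_injective hf ⟨_, hv⟩
  rw [← hinj (congrArg Subtype.val hw)]
  exact w.2

/-- The endomorphism induced on an invariant subgroup. -/
def res (U : AddSubgroup V) (x : AddMonoid.End V) (hx : ∀ v ∈ U, x v ∈ U) : AddMonoid.End U :=
  ((x : V →+ V).comp U.subtype).codRestrict U fun w => hx w w.2

/-- The endomorphism induced on the quotient by an invariant subgroup. -/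
def quo (U : AddSubgroup V) (x : AddMonoid.End V) (hx : ∀ v ∈ U, x v ∈ U) :
    AddMonoid.End (V ⧸ U) :=
  QuotientAddGroup.map U U (x : V →+ V) fun v hv => hx v hv

/-- The action of the preservers on the subgroup. -/
def resHom (U : AddSubgroup V) : preservers U →* AddMonoid.End U where
  toFun x := res U (x : (AddMonoid.End V)ˣ) fun v hv => (x.2 v).1 hv
  map_one' := AddMonoidHom.ext fun _ => rfl
  map_mul' _ _ := AddMonoidHom.ext fun _ => rfl

/-- The action of the preservers on the quotient. -/
def quoHom (U : AddSubgroup V) : preservers U →* AddMonoid.End (V ⧸ U) where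
  toFun x := quo U (x : (AddMonoid.End V)ˣ) fun v hv => (x.2 v).1 hv
  map_one' := AddMonoidHom.ext fun q => QuotientAddGroup.induction_on q fun _ => rfl
  map_mul' _ _ := AddMonoidHom.ext fun q => QuotientAddGroup.induction_on q fun _ => rfl

/-- `1 + a e` and `1 + b f` commute in a solvable group of odd order. -/
theorem commute_of_quad (n : ℕ) : ∀ (V : Type u) [AddCommGroup V] [Finite V], Nat.card V ≤ n →
    (∀ v : V, v + v = 0) → ∀ (e f a b : AddMonoid.End V), e * e = e → f * f = f →
    a * b = b * a → a * e = e * a → a * f = f * a → b * e = e * b → b * f = f * b →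
    ∀ (J : Subgroup (AddMonoid.End V)ˣ), Odd (Nat.card J) → Group.IsSolvable J →
    ∀ x ∈ J, ∀ y ∈ J, (x : AddMonoid.End V) = 1 + a * e → (y : AddMonoid.End V) = 1 + b * f →
      x * y = y * x := by
  induction n with
  | zero =>
    intro V _ _ hV
    have := Nat.card_pos (α := V)
    omega
  | succ n ih =>
    intro V _ _ hV h2 e f a b he hf hab hae haf hbe hbf J hJo hJs x hx y hy hxe hyf
    haveI := hJs
    haveI := end_finite (V := V)
    by_cases hirr : ∀ U : AddSubgroup V, (∀ v ∈ U, e v ∈ U ∧ f v ∈ U ∧ a v ∈ U ∧ b v ∈ U) →
        U = ⊥ ∨ U = ⊤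
    · by_cases he0 : e = 0
      · have : x = 1 := Units.ext (by rw [hxe, he0, mul_zero, add_zero, Units.val_one])
        rw [this, one_mul, mul_one]
      set c := (e + f) * (e + f) with hcdef
      have hexp : c = e + e * f + (f * e + f) := by rw [hcdef, add_mul, mul_add, mul_add, he, hf]
      have hce : c * e = e + e * f * e := by
        rw [hexp, add_mul, add_mul, add_mul, he, mul_assoc f e e, he]
        rw [show e + e * f * e + (f * e + f * e) = e + e * f * e by rw [end_add_self h2, add_zero]]
      have hec : e * c = e + e * f * e := by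
        rw [hexp, mul_add, mul_add, mul_add, he, ← mul_assoc e e f, he, ← mul_assoc e f e]
        calc e + e * f + (e * f * e + e * f) = e + e * f * e + (e * f + e * f) := by abel
          _ = _ := by rw [end_add_self h2, add_zero]
      have hcf : c * f = f + f * e * f := by
        rw [hexp, add_mul, add_mul, add_mul, hf, mul_assoc e f f, hf]
        calc e * f + e * f + (f * e * f + f) = f + f * e * f + (e * f + e * f) := by abel
          _ = _ := by rw [end_add_self h2, add_zero]
      have hfc : f * c = f + f * e * f := by
        rw [hexp, mul_add, mul_add, mul_add, hf, ← mul_assoc f f e, hf, ← mul_assoc f e f]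
        calc f * e + f * e * f + (f * e + f) = f + f * e * f + (f * e + f * e) := by abel
          _ = _ := by rw [end_add_self h2, add_zero]
      have hefe : e * f * e = e * c + e := by
        rw [hec]
        calc e * f * e = e * f * e + (e + e) := by rw [end_add_self h2, add_zero]
          _ = _ := by abel
      have hca : c * a = a * c := ((Commute.mul_right (Commute.add_right hae haf)
        (Commute.add_right hae haf) : Commute a c)).eq.symm
      have hcb : c * b = b * c := ((Commute.mul_right (Commute.add_right hbe hbf)
        (Commute.add_right hbe hbf) : Commute b c)).eq.symm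
      set L : Subring (AddMonoid.End V) := Subring.closure {a, b, c}
      have hLcent : ∀ g : AddMonoid.End V, a * g = g * a → b * g = g * b → c * g = g * c →
          ∀ r ∈ L, r * g = g * r := by
        intro g ga gb gc r hr
        induction hr using Subring.closure_induction with
        | mem z hz => rcases hz with rfl | rfl | rfl <;> assumption
        | zero => rw [zero_mul, mul_zero]
        | one => rw [one_mul, mul_one]
        | add p q _ _ hp hq => rw [add_mul, mul_add, hp, hq]
        | neg p _ hp => rw [neg_mul, mul_neg, hp]
        | mul p q _ _ hp hq => exact (Commute.mul_left hp hq).eq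
      have hLe := hLcent e hae hbe (hce.trans hec.symm)
      have hLf := hLcent f haf hbf (hcf.trans hfc.symm)
      have hLa := hLcent a rfl hab.symm hca
      have hLb := hLcent b hab rfl hcb
      have hLc' := hLcent c hca.symm hcb.symm rfl
      have hLc : ∀ p ∈ L, ∀ q ∈ L, p * q = q * p := fun p hp q hq =>
        hLcent q (hLa q hq).symm (hLb q hq).symm (hLc' q hq).symm p hp
      have hLinj : ∀ r ∈ L, r ≠ 0 → ∀ v, r v = 0 → v = 0 := by
        intro r hr hr0 v hv
        rcases hirr (r : V →+ V).ker (fun w hw => by
          have hw' : r w = 0 := hw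
          have key : ∀ g : AddMonoid.End V, r * g = g * r → g w ∈ (r : V →+ V).ker := fun g hg => by
            show r (g w) = 0
            rw [show r (g w) = (r * g) w from rfl, hg, show (g * r) w = g (r w) from rfl, hw', map_zero]
          exact ⟨key e (hLe r hr), key f (hLf r hr), key a (hLa r hr), key b (hLb r hr)⟩) with h | h
        · have : v ∈ (r : V →+ V).ker := hv
          rwa [h, AddSubgroup.mem_bot] at this
        · exact absurd (AddMonoidHom.ext fun w => by
            have : w ∈ (r : V →+ V).ker := h ▸ AddSubgroup.mem_top w
            exact this) hr0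
      obtain ⟨w, hw⟩ : ∃ w, e w ≠ 0 := by
        by_contra h; push Not at h; exact he0 (AddMonoidHom.ext h)
      set v := e w with hvdef
      have hev : e v = v := DFunLike.congr_fun he w
      have hffv : f (f v) = f v := DFunLike.congr_fun hf v
      let g : L × L →+ V :=
        { toFun := fun p => (p.1 : AddMonoid.End V) v + (p.2 : AddMonoid.End V) (f v)
          map_zero' := add_zero 0
          map_add' := fun p q => add_add_add_comm _ _ _ _ }
      have htop : g.range = ⊤ := by
        refine (hirr g.range fun z hz => ?_).resolve_left fun hb => hw ?_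
        · obtain ⟨⟨α, β⟩, rfl⟩ := hz
          show e ((α : AddMonoid.End V) v + (β : AddMonoid.End V) (f v)) ∈ g.range ∧
            f ((α : AddMonoid.End V) v + (β : AddMonoid.End V) (f v)) ∈ g.range ∧
            a ((α : AddMonoid.End V) v + (β : AddMonoid.End V) (f v)) ∈ g.range ∧
            b ((α : AddMonoid.End V) v + (β : AddMonoid.End V) (f v)) ∈ g.range
          have hcm : c ∈ L := Subring.subset_closure (by simp)
          have hefv : e (f v) = (c + 1) v := by
            calc e (f v) = (e * f * e) v := by show e (f v) = e (f (e v)); rw [hev]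
              _ = (c * e + e) v := by rw [hefe, (hce.trans hec.symm)]
              _ = _ := by show c (e v) + e v = c v + v; rw [hev]
          refine ⟨⟨(α + β * ⟨c + 1, L.add_mem hcm L.one_mem⟩, 0), ?_⟩, ⟨(0, α + β), ?_⟩,
            ⟨(⟨a, Subring.subset_closure (by simp)⟩ * α, ⟨a, Subring.subset_closure (by simp)⟩ * β), ?_⟩,
            ⟨(⟨b, Subring.subset_closure (by simp)⟩ * α, ⟨b, Subring.subset_closure (by simp)⟩ * β), ?_⟩⟩
          · show (α : AddMonoid.End V) v + (β : AddMonoid.End V) ((c + 1) v) + 0 = _
            rw [map_add, add_zero]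
            refine congrArg₂ (· + ·) ?_ ?_
            · rw [show e ((α : AddMonoid.End V) v) = (e * α) v from rfl, ← hLe α α.2]
              show _ = (α : AddMonoid.End V) (e v)
              rw [hev]
            · rw [show e ((β : AddMonoid.End V) (f v)) = (e * β) (f v) from rfl, ← hLe β β.2,
                ← hefv]
              rfl
          · show 0 + ((α : AddMonoid.End V) (f v) + (β : AddMonoid.End V) (f v)) = _
            rw [map_add, zero_add]
            refine congrArg₂ (· + ·) ?_ ?_
            · rw [show f ((α : AddMonoid.End V) v) = (f * α) v from rfl, ← hLf α α.2]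
              rfl
            · rw [show f ((β : AddMonoid.End V) (f v)) = (f * β) (f v) from rfl, ← hLf β β.2]
              show _ = (β : AddMonoid.End V) (f (f v))
              rw [hffv]
          · exact (map_add a _ _).symm
          · exact (map_add b _ _).symm
        · have hvm : v ∈ g.range := ⟨(1, 0), add_zero v⟩
          rwa [hb, AddSubgroup.mem_bot] at hvm
      have hcard : Nat.card V ≤ Nat.card L ^ 2 := by
        rw [pow_two, ← Nat.card_prod]
        exact Nat.card_le_card_of_surjective g (AddMonoidHom.range_eq_top.1 htop)
      let C : Subgroup (AddMonoid.End V)ˣ :=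
        { carrier := {u | ∀ r ∈ L, Commute r (u : AddMonoid.End V)}
          one_mem' := fun r _ => Commute.one_right r
          mul_mem' := fun hu hu' r hr => (hu r hr).mul_right (hu' r hr)
          inv_mem' := fun hu r hr => (hu r hr).units_inv_right }
      haveI : Group.IsSolvable ↥(J ⊓ C) :=
        Group.isSolvable_of_isSolvable_injective (Subgroup.inclusion_injective (inf_le_left : J ⊓ C ≤ J))
      refine planar_comm h2 hLc hLinj hcard (J ⊓ C)
        (hJo.of_dvd_nat (Subgroup.card_dvd_of_le inf_le_left))
        (fun j hj r hr => hj.2 r hr) x ⟨hx, fun r hr => ?_⟩ y ⟨hy, fun r hr => ?_⟩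
      · rw [hxe]; exact (Commute.one_right r).add_right (Commute.mul_right (hLa r hr) (hLe r hr))
      · rw [hyf]; exact (Commute.one_right r).add_right (Commute.mul_right (hLb r hr) (hLf r hr))
    · push Not at hirr
      obtain ⟨U, hU, hUb, hUt⟩ := hirr
      have hcU : Nat.card U < Nat.card V := by
        refine lt_of_le_of_ne (Nat.card_le_card_of_injective U.subtype Subtype.val_injective) fun h => hUt ?_
        exact AddSubgroup.eq_top_of_card_eq U h
      have hcQ : Nat.card (V ⧸ U) < Nat.card V := by
        have h1 := AddSubgroup.card_eq_card_quotient_mul_card_addSubgroup U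
        have h3 : 1 < Nat.card U := AddSubgroup.one_lt_card_iff_ne_bot U |>.2 hUb
        have h4 := Nat.card_pos (α := V ⧸ U)
        calc Nat.card (V ⧸ U) = Nat.card (V ⧸ U) * 1 := (mul_one _).symm
          _ < Nat.card (V ⧸ U) * Nat.card U := Nat.mul_lt_mul_of_pos_left h3 h4
          _ = Nat.card V := h1.symm
      have hxU : x ∈ preservers U := mem_preservers fun v hv => by
        rw [hxe]; exact U.add_mem hv ((hU _ (hU v hv).1).2.2.1)
      have hyU : y ∈ preservers U := mem_preservers fun v hv => by
        rw [hyf]; exact U.add_mem hv ((hU _ (hU v hv).2.1).2.2.2)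
      set K := J ⊓ preservers U
      haveI : Group.IsSolvable K :=
        Group.isSolvable_of_isSolvable_injective (Subgroup.inclusion_injective (inf_le_left : K ≤ J))
      have hKo : Odd (Nat.card K) := hJo.of_dvd_nat (Subgroup.card_dvd_of_le inf_le_left)
      let x' : K := ⟨x, hx, hxU⟩
      let y' : K := ⟨y, hy, hyU⟩
      let ρ : K →* (AddMonoid.End U)ˣ :=
        ((resHom U).comp (Subgroup.inclusion inf_le_right)).toHomUnits
      let π : K →* (AddMonoid.End (V ⧸ U))ˣ :=
        ((quoHom U).comp (Subgroup.inclusion inf_le_right)).toHomUnits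
      have e1 : ρ x' * ρ y' = ρ y' * ρ x' :=
        ih U (by omega) (fun v => Subtype.ext (h2 v)) (res U e fun v hv => (hU v hv).1)
          (res U f fun v hv => (hU v hv).2.1) (res U a fun v hv => (hU v hv).2.2.1)
          (res U b fun v hv => (hU v hv).2.2.2)
          (AddMonoidHom.ext fun w => Subtype.ext (DFunLike.congr_fun he w.1))
          (AddMonoidHom.ext fun w => Subtype.ext (DFunLike.congr_fun hf w.1))
          (AddMonoidHom.ext fun w => Subtype.ext (DFunLike.congr_fun hab w.1))
          (AddMonoidHom.ext fun w => Subtype.ext (DFunLike.congr_fun hae w.1))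
          (AddMonoidHom.ext fun w => Subtype.ext (DFunLike.congr_fun haf w.1))
          (AddMonoidHom.ext fun w => Subtype.ext (DFunLike.congr_fun hbe w.1))
          (AddMonoidHom.ext fun w => Subtype.ext (DFunLike.congr_fun hbf w.1))
          ρ.range (hKo.of_dvd_nat (Subgroup.card_range_dvd ρ))
          (Group.isSolvable_of_surjective ρ.rangeRestrict_surjective)
          _ ⟨x', rfl⟩ _ ⟨y', rfl⟩
          (AddMonoidHom.ext fun w => Subtype.ext (DFunLike.congr_fun hxe w.1))
          (AddMonoidHom.ext fun w => Subtype.ext (DFunLike.congr_fun hyf w.1))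
      have hQ2 : ∀ q : V ⧸ U, q + q = 0 := fun q => QuotientAddGroup.induction_on q fun v => by
        rw [← QuotientAddGroup.mk_add, h2, QuotientAddGroup.mk_zero]
      have e2 : π x' * π y' = π y' * π x' :=
        ih (V ⧸ U) (by omega) hQ2 (quo U e fun v hv => (hU v hv).1)
          (quo U f fun v hv => (hU v hv).2.1) (quo U a fun v hv => (hU v hv).2.2.1)
          (quo U b fun v hv => (hU v hv).2.2.2)
          (AddMonoidHom.ext fun q => QuotientAddGroup.induction_on q fun w =>
            congrArg (QuotientAddGroup.mk (s := U)) (DFunLike.congr_fun he w))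
          (AddMonoidHom.ext fun q => QuotientAddGroup.induction_on q fun w =>
            congrArg (QuotientAddGroup.mk (s := U)) (DFunLike.congr_fun hf w))
          (AddMonoidHom.ext fun q => QuotientAddGroup.induction_on q fun w =>
            congrArg (QuotientAddGroup.mk (s := U)) (DFunLike.congr_fun hab w))
          (AddMonoidHom.ext fun q => QuotientAddGroup.induction_on q fun w =>
            congrArg (QuotientAddGroup.mk (s := U)) (DFunLike.congr_fun hae w))
          (AddMonoidHom.ext fun q => QuotientAddGroup.induction_on q fun w =>
            congrArg (QuotientAddGroup.mk (s := U)) (DFunLike.congr_fun haf w))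
          (AddMonoidHom.ext fun q => QuotientAddGroup.induction_on q fun w =>
            congrArg (QuotientAddGroup.mk (s := U)) (DFunLike.congr_fun hbe w))
          (AddMonoidHom.ext fun q => QuotientAddGroup.induction_on q fun w =>
            congrArg (QuotientAddGroup.mk (s := U)) (DFunLike.congr_fun hbf w))
          π.range (hKo.of_dvd_nat (Subgroup.card_range_dvd π))
          (Group.isSolvable_of_surjective π.rangeRestrict_surjective)
          _ ⟨x', rfl⟩ _ ⟨y', rfl⟩
          (AddMonoidHom.ext fun q => QuotientAddGroup.induction_on q fun w =>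
            congrArg (QuotientAddGroup.mk (s := U)) (DFunLike.congr_fun hxe w))
          (AddMonoidHom.ext fun q => QuotientAddGroup.induction_on q fun w =>
            congrArg (QuotientAddGroup.mk (s := U)) (DFunLike.congr_fun hyf w))
      set u' : K := x' * y' * x'⁻¹ * y'⁻¹ with hu'
      have hρ : ρ u' = 1 := by
        rw [hu', map_mul, map_mul, map_mul, map_inv, map_inv, e1, mul_inv_cancel_right,
          mul_inv_cancel]
      have hπ : π u' = 1 := by
        rw [hu', map_mul, map_mul, map_mul, map_inv, map_inv, e2, mul_inv_cancel_right,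
          mul_inv_cancel]
      set u : (AddMonoid.End V)ˣ := (u' : (AddMonoid.End V)ˣ) with hu
      have hu2 : u * u = 1 := by
        refine Units.ext (AddMonoidHom.ext fun v => ?_)
        show (u : AddMonoid.End V) ((u : AddMonoid.End V) v) = v
        have hvU : -v + (u : AddMonoid.End V) v ∈ U := by
          have := DFunLike.congr_fun (congrArg Units.val hπ) (QuotientAddGroup.mk v)
          exact QuotientAddGroup.eq.1 this.symm
        have hfix : (u : AddMonoid.End V) (-v + (u : AddMonoid.End V) v) = -v + (u : AddMonoid.End V) v :=
          congrArg Subtype.val (DFunLike.congr_fun (congrArg Units.val hρ)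
            (⟨-v + (u : AddMonoid.End V) v, hvU⟩ : U))
        rw [map_add, map_neg, neg_self h2] at hfix
        calc (u : AddMonoid.End V) ((u : AddMonoid.End V) v)
            = (u : AddMonoid.End V) v + ((u : AddMonoid.End V) v + (u : AddMonoid.End V) ((u : AddMonoid.End V) v)) := by
              rw [← add_assoc, h2, zero_add]
          _ = v := by rw [hfix, neg_self h2, add_comm v, ← add_assoc, h2, zero_add]
      obtain ⟨m, hm⟩ := exists_sq_pow hJo (show u ∈ J from u'.2.1)
      have hu1 : u = 1 := by rw [← hm, pow_two, hu2, one_pow]
      have : x * y * x⁻¹ * y⁻¹ = 1 := hu1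
      exact mul_inv_eq_iff_eq_mul.1 (mul_inv_eq_one.1 this)

end Cfsg.Agent.Lib.Walter.Comb
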