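import Cfsg.Agent.Lib.Walter.Comb.Torus
import Mathlib.FieldTheory.Galois.Basic
import Mathlib.LinearAlgebra.Dimension.Free
import Mathlib.RingTheory.IntegralDomain

/-!
# A torus element acting semilinearly: the space has order eight
-/

set_option autoImplicit false
set_option linter.style.haveILetI false

namespace Cfsg.Agent.Lib.Walter.Comb

variable {V : Type*} [AddCommGroup V] [Finite V]

theorem two_pow_le_aux : ∀ j : ℕ, 4 ≤ j → j + 2 ≤ 2 ^ (j - 1)
  | 0, h | 1, h | 2, h | 3, h => by omega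
  | 4, _ => by norm_num
  | j + 5, _ => by
    have := two_pow_le_aux (j + 4) (by omega)
    rw [show j + 5 - 1 = (j + 4 - 1) + 1 by omega, pow_succ]
    omega

/-- If `t` normalises a field of endomorphisms without centralising it, then `|V| = 8`. -/
theorem card_eight_of_semilinear (R : Subring (AddMonoid.End V))
    (hc : ∀ p ∈ R, ∀ q ∈ R, p * q = q * p) (hinj : ∀ p ∈ R, p ≠ 0 → ∀ v, p v = 0 → v = 0)
    {t : (AddMonoid.End V)ˣ} {W Q : AddSubgroup V} (hT : IsTor t W Q)
    (hn : ∀ p ∈ R, cj t p ∈ R) (hn' : ∀ p ∈ R, cj t⁻¹ p ∈ R) (hmove : ∃ p ∈ R, cj t p ≠ p) :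
    Nat.card V = 8 := by
  classical
  haveI := end_finite (V := V)
  obtain ⟨v, hvQ, hv0⟩ := hT.Qne
  have hne : (1 : AddMonoid.End V) ≠ 0 := fun h => hv0 (DFunLike.congr_fun h v)
  let _ : CommRing R := { R.toRing with mul_comm := fun a b => Subtype.ext (hc a a.2 b b.2) }
  haveI : Nontrivial R := ⟨⟨0, 1, fun h => hne (congrArg Subtype.val h).symm⟩⟩
  have hKf : IsField R :=
    ⟨exists_pair_ne R, fun a b => mul_comm a b, fun {a} ha => by
      obtain ⟨y, hy, -, hy2⟩ := exists_inv_mem R a.2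
        (hinj a a.2 fun h => ha (Subtype.ext h))
      exact ⟨⟨y, hy⟩, Subtype.ext hy2⟩⟩
  let _ : Field R := hKf.toField
  let σ : R ≃+* R :=
    { toFun := fun p => ⟨cj t p, hn p p.2⟩
      invFun := fun p => ⟨cj t⁻¹ p, hn' p p.2⟩
      left_inv := fun p => Subtype.ext (by show cj t⁻¹ (cj t p) = p; rw [← cj_mul, inv_mul_cancel, cj_one])
      right_inv := fun p => Subtype.ext (by show cj t (cj t⁻¹ p) = p; rw [← cj_mul, mul_inv_cancel, cj_one])
      map_mul' := fun p q => Subtype.ext (cj_map_mul t p q)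
      map_add' := fun p q => Subtype.ext (cj_add t p q) }
  let φ : R → V := fun p => (p : AddMonoid.End V) v
  have hφ : Function.Injective φ := by
    intro p q h
    refine Subtype.ext (sub_eq_zero.1 ?_)
    by_contra hne'
    exact hv0 (hinj _ (R.sub_mem p.2 q.2) hne' v (by
      show (p : AddMonoid.End V) v - (q : AddMonoid.End V) v = 0
      exact sub_eq_zero.2 h))
  have htφ : ∀ (p : R) (m : ℕ), ((t : AddMonoid.End V) ^ m) (φ p) = φ ((σ^[m]) p) := by
    intro p m
    induction m with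
    | zero => rfl
    | succ m ih =>
      rw [pow_succ', Function.iterate_succ_apply']
      show (t : AddMonoid.End V) (((t : AddMonoid.End V) ^ m) (φ p)) = φ (σ ((σ^[m]) p))
      rw [ih]
      show (t : AddMonoid.End V) ((((σ^[m]) p : R) : AddMonoid.End V) v) =
        cj t ((σ^[m]) p : R) v
      conv_rhs => rw [← hT.fix v hvQ]
      exact (cj_apply t _ v).symm
  obtain ⟨p, hp, hpm⟩ := hmove
  set μ : R := σ ⟨p, hp⟩ - ⟨p, hp⟩ with hμ
  have hμ0 : μ ≠ 0 := fun h => by
    rw [hμ, sub_eq_zero] at h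
    exact hpm (congrArg Subtype.val h)
  have hstep : ∀ q : R, φ (σ q) = (t : AddMonoid.End V) (φ q) := fun q => by
    have := (htφ q 1).symm
    rwa [pow_one] at this
  have hμW : φ μ ∈ W := by
    have h := hT.diff_mem (φ ⟨p, hp⟩)
    rw [← hstep] at h
    exact h
  have hφμ0 : φ μ ≠ 0 := fun h => hμ0 (hφ (h.trans (show φ 0 = 0 from rfl).symm))
  -- `W` lies in the line of `v`, hence so does everything
  have hWline : ∀ w ∈ W, ∃ q : R, φ q = w := by
    intro w hw
    by_cases h0 : w = 0
    · exact ⟨0, h0.symm ▸ rfl⟩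
    obtain ⟨j, hj⟩ := hT.trans _ hμW hφμ0 w hw h0
    exact ⟨(σ^[j]) μ, by rw [← htφ, hj]⟩
  have hsurj : Function.Surjective φ := by
    intro u
    obtain ⟨c, hc'⟩ := hWline _ (hT.diff_mem u)
    obtain ⟨d, hd⟩ := hWline _ (hT.diff_mem ((p : AddMonoid.End V) u))
    obtain ⟨y, hy, hy1, -⟩ := exists_inv_mem R μ.2 (hinj _ μ.2 fun h => hμ0 (Subtype.ext h))
    set P : R := ⟨p, hp⟩
    have key : (μ : AddMonoid.End V) u = φ (d - σ P * c) := by
      have h1 : (t : AddMonoid.End V) (p u) = (σ P : AddMonoid.End V) ((t : AddMonoid.End V) u) :=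
        (cj_apply t p u).symm
      show (σ P : AddMonoid.End V) u - p u = φ d - (σ P : AddMonoid.End V) (φ c)
      rw [hd, hc', h1, map_sub]
      abel
    refine ⟨⟨y, hy⟩ * (d - σ P * c), ?_⟩
    show y (φ (d - σ P * c)) = u
    rw [← key, show y ((μ : AddMonoid.End V) u) = (y * μ) u from rfl, hy1]
    rfl
  -- the fixed field
  let F : Subfield R := RingHom.eqLocusField (σ : R →+* R) (RingHom.id R)
  have hF : ∀ q : R, q ∈ F ↔ φ q ∈ Q := by
    intro q
    refine ⟨fun h => hT.mem_Q ?_, fun h => hφ ?_⟩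
    · rw [← hstep]; exact congrArg φ h
    · show φ (σ q) = φ q
      rw [hstep, hT.fix _ h]
  have hQcard : Nat.card F = Nat.card Q := by
    refine Nat.card_eq_of_bijective (fun q : F => (⟨φ q, (hF q).1 q.2⟩ : Q)) ⟨?_, ?_⟩
    · intro a b h; exact Subtype.ext (hφ (congrArg Subtype.val h))
    · intro w
      obtain ⟨q, hq⟩ := hsurj w
      exact ⟨⟨q, (hF q).2 (hq ▸ w.2)⟩, Subtype.ext hq⟩
  haveI : Finite R := inferInstance
  haveI : Module.Finite F R := Module.Finite.of_finite
  set j := Module.finrank F R with hj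
  have hVR : Nat.card V = Nat.card F ^ j := by
    rw [← Nat.card_eq_of_bijective φ ⟨hφ, hsurj⟩, hj]
    exact Module.natCard_eq_pow_finrank
  have hprod : Nat.card V = Nat.card W * Nat.card Q := by
    rw [← Nat.card_prod]
    refine (Nat.card_eq_of_bijective (fun x : W × Q => (x.1 : V) + x.2) ⟨?_, ?_⟩).symm
    · rintro ⟨a, b⟩ ⟨a', b'⟩ h
      have h' : (a : V) - a' = b' - b := sub_eq_sub_iff_add_eq_add.2 (by rw [add_comm (b' : V)]; exact h)
      have h0 := hT.disj _ (W.sub_mem a.2 a'.2) (h' ▸ Q.sub_mem b'.2 b.2)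
      exact Prod.ext (Subtype.ext (sub_eq_zero.1 h0))
        (Subtype.ext (sub_eq_zero.1 (h'.symm.trans h0)).symm)
    · intro u
      obtain ⟨a, ha, b, hb, rfl⟩ := hT.span u
      exact ⟨(⟨a, ha⟩, ⟨b, hb⟩), rfl⟩
  -- the orbit of `μ` under the automorphisms fixing `F`
  let σA : R ≃ₐ[F] R := AlgEquiv.ofRingEquiv (f := σ) fun f => f.2
  have horb : Nat.card W ≤ j + 1 := by
    have hA : Fintype.card (R ≃ₐ[F] R) ≤ j := AlgEquiv.card_le
    let g : W → Option (R ≃ₐ[F] R) := fun w =>
      if h : (w : V) = 0 then none else some (σA ^ (hT.trans _ hμW hφμ0 w w.2 h).choose)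
    have hit : ∀ (m : ℕ) (q : R), (σA ^ m) q = (σ^[m]) q := by
      intro m q
      induction m with
      | zero => rfl
      | succ m ih =>
        rw [pow_succ', Function.iterate_succ_apply', AlgEquiv.mul_apply, ih]
        rfl
    have hg : Function.Injective g := by
      intro a b hab
      by_cases ha : (a : V) = 0 <;> by_cases hb : (b : V) = 0
      · exact Subtype.ext (ha.trans hb.symm)
      · simp only [g, dif_pos ha, dif_neg hb] at hab
        exact absurd hab.symm (Option.some_ne_none _)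
      · simp only [g, dif_neg ha, dif_pos hb] at hab
        exact absurd hab (Option.some_ne_none _)
      · simp only [g, dif_neg ha, dif_neg hb, Option.some_inj] at hab
        have h1 := (hT.trans _ hμW hφμ0 a a.2 ha).choose_spec
        have h2' := (hT.trans _ hμW hφμ0 b b.2 hb).choose_spec
        refine Subtype.ext ?_
        rw [← h1, ← h2', htφ, htφ, ← hit, ← hit, hab]
    have := Nat.card_le_card_of_injective g hg
    rw [Nat.card_eq_fintype_card (α := Option _), Fintype.card_option] at this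
    omega
  have hf2 : 2 ≤ Nat.card F := Finite.one_lt_card
  have hW4 := hT.four
  have hj3 : 3 ≤ j := by omega
  have hWeq : Nat.card W = Nat.card F ^ (j - 1) := by
    have h := hprod.symm.trans hVR
    rw [← hQcard, show j = (j - 1) + 1 by omega, pow_succ] at h
    exact Nat.eq_of_mul_eq_mul_right (by omega) h
  have hjle : j ≤ 3 := by
    by_contra h
    have h1 := two_pow_le_aux j (by omega)
    have h3 : 2 ^ (j - 1) ≤ Nat.card F ^ (j - 1) := Nat.pow_le_pow_left hf2 _
    omega
  have hj' : j = 3 := by omega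
  have hF2 : Nat.card F = 2 := by
    by_contra h
    have h3 : 3 ^ 2 ≤ Nat.card F ^ 2 := Nat.pow_le_pow_left (by omega) _
    rw [hj'] at horb hWeq
    norm_num at hWeq h3
    omega
  rw [hVR, hj', hF2]
  norm_num

end Cfsg.Agent.Lib.Walter.Comb
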