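import Cfsg.Agent.Lib.Walter.Comb.Atoms
import Cfsg.Agent.Lib.Walter.Comb.Pair
import Cfsg.Agent.Lib.Walter.Comb.Semilinear
import Cfsg.Agent.Lib.OddOrder.FeitThompson

/-!
# Torus elements of an irreducible group of odd order: order eight or meeting fixed spaces
-/

set_option autoImplicit false
set_option linter.style.haveILetI false

namespace Cfsg.Agent.Lib.Walter.Comb

open scoped commutatorElement

universe u

variable {V : Type u} [AddCommGroup V] [Finite V]

theorem solvable_of_odd {G : Subgroup (AddMonoid.End V)ˣ} (h : Odd (Nat.card G)) :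
    Group.IsSolvable G := by
  haveI := end_finite (V := V)
  exact OddOrder.FeitThompson.isSolvable_of_odd_card h

/-- An abelian normal subgroup without fixed vectors exists. -/
theorem exists_abNormal {G : Subgroup (AddMonoid.End V)ˣ} (hG : Irr G) (h1 : G ≠ ⊥) :
    ∃ A, AbNormal G A := by
  classical
  haveI := solvable_of_odd hG.odd
  haveI : Nontrivial G := (Subgroup.nontrivial_iff_ne_bot G).2 h1
  obtain ⟨n, hn⟩ := Group.IsSolvable.solvable (G := ↥G)
  have hex : ∃ m, derivedSeries ↥G m = ⊥ := ⟨n, hn⟩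
  obtain ⟨k, hk⟩ : ∃ k, Nat.find hex = k + 1 := by
    refine ⟨Nat.find hex - 1, ?_⟩
    have h0 : Nat.find hex ≠ 0 := fun h => by
      have := Nat.find_spec hex
      rw [h, derivedSeries_zero] at this
      exact top_ne_bot this
    omega
  have hbot : derivedSeries ↥G (k + 1) = ⊥ := hk ▸ Nat.find_spec hex
  have hne : derivedSeries ↥G k ≠ ⊥ := Nat.find_min hex (by omega)
  refine ⟨(derivedSeries ↥G k).map G.subtype, Subgroup.map_subtype_le _, ?_, ?_, ?_⟩
  · rintro g hg _ ⟨a, ha, rfl⟩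
    exact ⟨⟨g, hg⟩ * a * ⟨g, hg⟩⁻¹, (derivedSeries_normal ↥G k).conj_mem a ha _, rfl⟩
  · rintro _ ⟨a, ha, rfl⟩ _ ⟨b, hb, rfl⟩
    have hc : ⁅a, b⁆ = 1 := by
      rw [← Subgroup.mem_bot, ← hbot, derivedSeries_succ]
      exact Subgroup.commutator_mem_commutator ha hb
    exact congrArg (Subtype.val) (commutatorElement_eq_one_iff_mul_comm.1 hc)
  · intro v hv
    let U : AddSubgroup V :=
      { carrier := {z | ∀ a ∈ (derivedSeries ↥G k).map G.subtype, (a : AddMonoid.End V) z = z}
        zero_mem' := fun a _ => map_zero _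
        add_mem' := fun {x y} hx hy a ha => by rw [map_add, hx a ha, hy a ha]
        neg_mem' := fun {x} hx a ha => by rw [map_neg, hx a ha] }
    rcases hG.irr U (fun g hg z hz a ha => by
      have hm : g⁻¹ * a * g ∈ (derivedSeries ↥G k).map G.subtype := by
        obtain ⟨a', ha', rfl⟩ := ha
        exact ⟨⟨g, hg⟩⁻¹ * a' * ⟨g, hg⟩, by
          simpa using (derivedSeries_normal ↥G k).conj_mem a' ha' ⟨g, hg⟩⁻¹, rfl⟩
      have h := congrArg (g : AddMonoid.End V) (hz _ hm)
      rw [show (g : AddMonoid.End V) ((↑(g⁻¹ * a * g) : AddMonoid.End V) z)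
        = (↑(g * (g⁻¹ * a * g)) : AddMonoid.End V) z from rfl,
        show g * (g⁻¹ * a * g) = a * g by group] at h
      exact h) with h | h
    · have : v ∈ U := hv
      rwa [h, AddSubgroup.mem_bot] at this
    · refine absurd ((Subgroup.eq_bot_iff_forall (derivedSeries (↥G) k)).2 fun a ha =>
        Subtype.ext (Units.ext ?_)) hne
      exact AddMonoidHom.ext fun z => (h ▸ AddSubgroup.mem_top z : z ∈ U) _ ⟨a, ha, rfl⟩

/-- The ring generated by a group of odd order is reduced. -/
theorem reduced_alg {G A : Subgroup (AddMonoid.End V)ˣ} (hG : Irr G) (hA : AbNormal G A)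
    {x : AddMonoid.End V} (hx : x ∈ alg A) : ∀ N : ℕ, x ^ N = 0 → x = 0 := by
  haveI := end_finite (V := V)
  have hsq : ∀ r ∈ alg A, ∃ y ∈ alg A, y * y = r := by
    intro r hr
    induction hr using Subring.closure_induction with
    | mem z hz =>
      obtain ⟨a, ha, rfl⟩ := hz
      obtain ⟨m, hm⟩ := exists_sq_pow hG.odd (hA.le ha)
      refine ⟨_, pow_mem (mem_alg ha) m, ?_⟩
      rw [← pow_add, ← two_mul, pow_mul, ← Units.val_pow_eq_pow_val, ← Units.val_pow_eq_pow_val, hm]
    | zero => exact ⟨0, zero_mem _, zero_mul 0⟩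
    | one => exact ⟨1, one_mem _, one_mul 1⟩
    | add p q _ _ hp hq =>
      obtain ⟨y, hy, rfl⟩ := hp
      obtain ⟨y', hy', rfl⟩ := hq
      refine ⟨y + y', add_mem hy hy', ?_⟩
      rw [add_mul, mul_add, mul_add, alg_comm hA.comm y' hy' y hy]
      calc y * y + y * y' + (y * y' + y' * y') = y * y + y' * y' + (y * y' + y * y') := by abel
        _ = _ := by rw [end_add_self hG.two, add_zero]
    | neg p _ hp => rw [end_neg hG.two]; exact hp
    | mul p q hp' hq' hp hq =>
      obtain ⟨y, hy, rfl⟩ := hp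
      obtain ⟨y', hy', rfl⟩ := hq
      refine ⟨y * y', mul_mem hy hy', ?_⟩
      rw [mul_assoc, ← mul_assoc y', alg_comm hA.comm y' hy' y hy, mul_assoc y, ← mul_assoc y y]
  let f : alg A → alg A := fun r => r * r
  have hf : Function.Injective f := Finite.injective_iff_surjective.2 fun r => by
    obtain ⟨y, hy, h⟩ := hsq r r.2
    exact ⟨⟨y, hy⟩, Subtype.ext h⟩
  have h0 : ∀ r : alg A, r * r = 0 → r = 0 := fun r hr => hf (by show r * r = 0 * 0; rw [hr, mul_zero])
  intro N
  induction N using Nat.strong_induction_on with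
  | _ N ih =>
    intro hN
    rcases Nat.lt_or_ge N 2 with h | h
    · interval_cases N
      · rw [pow_zero] at hN
        rw [← one_mul x, hN, zero_mul]
      · rwa [pow_one] at hN
    · refine ih (N - 1) (by omega) (congrArg Subtype.val (h0 ⟨x ^ (N - 1), pow_mem hx _⟩
        (Subtype.ext ?_)))
      show x ^ (N - 1) * x ^ (N - 1) = 0
      rw [← pow_add, show N - 1 + (N - 1) = N + (N - 2) by omega, pow_add, hN, zero_mul]

/-- Either the space has order eight, or any two fixed spaces of torus elements meet. -/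
theorem inter_or_eight {G : Subgroup (AddMonoid.End V)ˣ} (hG : Irr G)
    {t t' : (AddMonoid.End V)ˣ} {W Q W' Q' : AddSubgroup V} (ht : t ∈ G) (hT : IsTor t W Q)
    (ht' : t' ∈ G) (hT' : IsTor t' W' Q') :
    Nat.card V = 8 ∨ ∃ v ∈ Q, v ∈ Q' ∧ v ≠ 0 := by
  classical
  haveI := end_finite (V := V)
  obtain ⟨w0, hw0, hw00⟩ := hT.exists_ne_zero
  have ht1 : t ≠ 1 := fun h => hw00 (hT.eq_zero_of_fixed hw0 (by rw [h]; rfl))
  obtain ⟨A, hA⟩ := exists_abNormal hG (fun h => ht1 (by rwa [h, Subgroup.mem_bot] at ht))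
  by_cases hid : ∃ e ∈ alg A, e * e = e ∧ e ≠ 0 ∧ e ≠ 1
  · exact .inr (inter_of_idem hG hA hid ht hT ht' hT')
  push Not at hid
  set R := alg A with hR
  have hc := alg_comm hA.comm
  have hinv : ∀ x ∈ R, x ≠ 0 → ∃ y ∈ R, y * x = 1 := by
    intro x hx hx0
    obtain ⟨N, hN, hNN⟩ := exists_pow_idem x
    have hN0 : x ^ N ≠ 0 := fun h => hx0 (reduced_alg hG hA hx N h)
    refine ⟨x ^ (N - 1), pow_mem hx _, ?_⟩
    rw [← pow_succ, Nat.sub_add_cancel hN]
    exact hid _ (pow_mem hx N) hNN hN0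
  have hinj : ∀ x ∈ R, x ≠ 0 → ∀ v, x v = 0 → v = 0 := by
    intro x hx hx0 v hv
    obtain ⟨y, -, hyx⟩ := hinv x hx hx0
    have := DFunLike.congr_fun hyx v
    rw [show (y * x) v = y (x v) from rfl, hv, map_zero] at this
    exact this.symm
  have hn : ∀ g ∈ G, ∀ p ∈ R, cj g p ∈ R := fun g hg p hp => cj_mem_alg (hA.conj g hg) hp
  by_cases hmove : ∃ p ∈ R, cj t p ≠ p
  · exact .inl (card_eight_of_semilinear R hc hinj hT (hn t ht) (hn _ (inv_mem ht)) hmove)
  push Not at hmove
  right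
  set s := (t : AddMonoid.End V) with hs
  have hcom : ∀ p ∈ R, p * s = s * p := fun p hp => (cj_eq_iff t p).1 (hmove p hp)
  -- a scalar other than one
  obtain ⟨z, hz, hz1⟩ : ∃ z ∈ A, z ≠ 1 := by
    by_contra h
    push Not at h
    exact hw00 (hA.nofix w0 fun a ha => by rw [h a ha]; rfl)
  have hzR : (z : AddMonoid.End V) ∈ R := mem_alg hz
  have hz0 : (z : AddMonoid.End V) - 1 ≠ 0 := fun h => hz1 (Units.ext (sub_eq_zero.1 h))
  obtain ⟨y, hy, hyz⟩ := hinv _ (sub_mem hzR (one_mem R)) hz0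
  have hzw0 : (z : AddMonoid.End V) w0 ≠ 0 := fun h => hw00
    (hinj _ hzR (fun h' => hw00 (by
      have := DFunLike.congr_fun z.inv_mul w0
      rw [h', mul_zero] at this; exact this.symm)) w0 h)
  obtain ⟨j, hj⟩ := hT.trans w0 hw0 hw00 _ (hT.map_W (hcom _ hzR) hw0) hzw0
  set τ := t ^ j with hτ
  have hτs : (τ : AddMonoid.End V) = s ^ j := Units.val_pow_eq_pow_val t j
  have hτW : ∀ w ∈ W, (τ : AddMonoid.End V) w = (z : AddMonoid.End V) w := by
    intro w hw
    by_cases h0 : w = 0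
    · rw [h0, map_zero, map_zero]
    obtain ⟨i, hi⟩ := hT.trans w0 hw0 hw00 w hw h0
    rw [← hi, hτs,
      show (s ^ j) ((s ^ i) w0) = (s ^ i) ((s ^ j) w0) from
        DFunLike.congr_fun ((Commute.pow_pow_self s j i).eq) w0, hj,
      show (z : AddMonoid.End V) ((s ^ i) w0) = (s ^ i) ((z : AddMonoid.End V) w0) from
        DFunLike.congr_fun ((Commute.pow_right (hcom _ hzR) i).eq) w0]
  have hτQ : ∀ q ∈ Q, (τ : AddMonoid.End V) q = q := fun q hq => by
    rw [hτs]; exact IsTor.pow_fix (hT.fix q hq) j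
  set e := y * ((τ : AddMonoid.End V) - 1) with he
  have heW : ∀ w ∈ W, e w = w := by
    intro w hw
    show y ((τ : AddMonoid.End V) w - w) = w
    rw [hτW w hw]
    exact DFunLike.congr_fun hyz w
  have heQ : ∀ q ∈ Q, e q = 0 := by
    intro q hq
    show y ((τ : AddMonoid.End V) q - q) = 0
    rw [hτQ q hq, sub_self, map_zero]
  have hee : e * e = e := hT.end_ext (fun w hw => by show e (e w) = e w; rw [heW w hw, heW w hw])
    fun q hq => by show e (e q) = e q; rw [heQ q hq, map_zero]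
  have heR : ∀ p ∈ R, p * e = e * p := by
    intro p hp
    have h1 : Commute p (τ : AddMonoid.End V) := hτs ▸ Commute.pow_right (hcom p hp) j
    exact (Commute.mul_right (hc p hp y hy) (h1.sub_right (Commute.one_right p))).eq
  have hτe : (τ : AddMonoid.End V) = 1 + ((z : AddMonoid.End V) - 1) * e := by
    refine hT.end_ext (fun w hw => ?_) (fun q hq => ?_)
    · show _ = w + ((z : AddMonoid.End V) (e w) - e w)
      rw [heW w hw, hτW w hw, add_sub_cancel]
    · show _ = q + ((z : AddMonoid.End V) (e q) - e q)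
      rw [heQ q hq, hτQ q hq, map_zero, sub_zero, add_zero]
  -- the quadratic elements
  let T : Set (AddMonoid.End V)ˣ := {h | h ∈ G ∧ ∃ z ∈ A, ∃ e : AddMonoid.End V, e * e = e ∧
    (∀ p ∈ R, p * e = e * p) ∧ (h : AddMonoid.End V) = 1 + ((z : AddMonoid.End V) - 1) * e}
  have hTcomm : ∀ a ∈ T, ∀ b ∈ T, a * b = b * a := by
    rintro a ⟨haG, za, hza, ea, hea, heaR, haE⟩ b ⟨hbG, zb, hzb, eb, heb, hebR, hbE⟩
    have hza' := sub_mem (mem_alg hza) (one_mem (alg A))
    have hzb' := sub_mem (mem_alg hzb) (one_mem (alg A))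
    exact commute_of_quad (Nat.card V) V le_rfl hG.two ea eb _ _ hea heb
      (hc _ hza' _ hzb') (heaR _ hza') (hebR _ hza') (heaR _ hzb') (hebR _ hzb') G hG.odd
      (solvable_of_odd hG.odd) a haG b hbG haE hbE
  set A' := Subgroup.closure T with hA'
  have hAT : ∀ a ∈ A, a ∈ T := fun a ha => ⟨hA.le ha, a, ha, 1, one_mul 1,
    fun p _ => by rw [one_mul, mul_one], by rw [mul_one, add_sub_cancel]⟩
  have hA'n : AbNormal G A' := by
    refine ⟨(Subgroup.closure_le G).2 fun a ha => ha.1, ?_, ?_, fun v hv =>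
      hA.nofix v fun a ha => hv a (Subgroup.subset_closure (hAT a ha))⟩
    · intro g hg a ha
      induction ha using Subgroup.closure_induction with
      | mem h hh =>
        obtain ⟨hhG, zh, hzh, eh, heh, hehR, hE⟩ := hh
        refine Subgroup.subset_closure ⟨mul_mem (mul_mem hg hhG) (inv_mem hg), g * zh * g⁻¹,
          hA.conj g hg zh hzh, cj g eh, by rw [← cj_map_mul, heh], fun p hp => ?_, ?_⟩
        · have hp' := hn g⁻¹ (inv_mem hg) p hp
          have hpe : p = cj g (cj g⁻¹ p) := by rw [← cj_mul, mul_inv_cancel, cj_one]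
          rw [hpe, ← cj_map_mul, ← cj_map_mul, hehR _ hp']
        · show cj g h = 1 + (cj g zh - 1) * cj g eh
          rw [hE, cj_add, cj_map_mul, cj_map_one, sub_eq_add_neg, end_neg hG.two, cj_add,
            cj_map_one, sub_eq_add_neg, end_neg hG.two]
      | one => rw [mul_one, mul_inv_cancel]; exact one_mem _
      | mul p q _ _ hp hq =>
        have := mul_mem hp hq
        rwa [show g * p * g⁻¹ * (g * q * g⁻¹) = g * (p * q) * g⁻¹ by group] at this
      | inv p _ hp =>
        have := inv_mem hp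
        rwa [show (g * p * g⁻¹)⁻¹ = g * p⁻¹ * g⁻¹ by group] at this
    · intro a ha b hb
      have h1 : A' ≤ Subgroup.centralizer T := (Subgroup.closure_le _).2 fun x hx g hg =>
        hTcomm g hg x hx
      have h2 : A' ≤ Subgroup.centralizer (A' : Set (AddMonoid.End V)ˣ) :=
        (Subgroup.closure_le _).2 fun x hx g hg => (h1 hg x hx).symm
      exact h2 hb a ha
  refine inter_of_idem hG hA'n ⟨e, ?_, hee, fun h => hw00 ?_, fun h => ?_⟩ ht hT ht' hT'
  · have hAA' : A ≤ A' := fun a ha => Subgroup.subset_closure (hAT a ha)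
    exact mul_mem (alg_mono hAA' hy)
      (sub_mem (mem_alg (Subgroup.subset_closure ⟨pow_mem ht j, z, hz, e, hee, heR, hτe⟩))
        (one_mem _))
  · rw [← heW w0 hw0, h]; rfl
  · obtain ⟨q, hq, hq0⟩ := hT.Qne
    have h' := heQ q hq
    rw [h] at h'
    exact hq0 h'

end Cfsg.Agent.Lib.Walter.Comb
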