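import Cfsg.Agent.Lib.Walter.Comb.Torus
import Mathlib.GroupTheory.GroupAction.Quotient

/-!
# The space of order eight
-/

set_option autoImplicit false
set_option linter.style.haveILetI false

namespace Cfsg.Agent.Lib.Walter.Comb

variable {V : Type*} [AddCommGroup V] [Finite V]

omit [Finite V] in
theorem IsTor.card_eq {t : (AddMonoid.End V)ˣ} {W Q : AddSubgroup V} (h : IsTor t W Q) :
    Nat.card V = Nat.card W * Nat.card Q := by
  rw [← Nat.card_prod]
  refine (Nat.card_eq_of_bijective (fun x : W × Q => (x.1 : V) + x.2) ⟨?_, ?_⟩).symm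
  · rintro ⟨a, b⟩ ⟨a', b'⟩ he
    have h' : (a : V) - a' = b' - b :=
      sub_eq_sub_iff_add_eq_add.2 (by rw [add_comm (b' : V)]; exact he)
    have h0 := h.disj _ (W.sub_mem a.2 a'.2) (h' ▸ Q.sub_mem b'.2 b.2)
    exact Prod.ext (Subtype.ext (sub_eq_zero.1 h0))
      (Subtype.ext (sub_eq_zero.1 (h'.symm.trans h0)).symm)
  · intro u
    obtain ⟨a, ha, b, hb, rfl⟩ := h.span u
    exact ⟨(⟨a, ha⟩, ⟨b, hb⟩), rfl⟩

theorem IsTor.card_of_eight {t : (AddMonoid.End V)ˣ} {W Q : AddSubgroup V} (h : IsTor t W Q)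
    (h8 : Nat.card V = 8) : Nat.card W = 4 ∧ Nat.card Q = 2 := by
  have h1 := h.card_eq
  have h2 : 2 ≤ Nat.card Q := by
    obtain ⟨q, hq, hq0⟩ := h.Qne
    haveI : Nontrivial Q := ⟨⟨⟨q, hq⟩, 0, fun he => hq0 (congrArg Subtype.val he)⟩⟩
    exact Finite.one_lt_card
  have h4 := h.four
  constructor <;> nlinarith

/-- An irreducible group of odd order with a torus element is transitive if `|V| = 8`. -/
theorem trans_of_eight {G : Subgroup (AddMonoid.End V)ˣ} (hG : Irr G) {t : (AddMonoid.End V)ˣ}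
    {W Q : AddSubgroup V} (ht : t ∈ G) (hT : IsTor t W Q) (h8 : Nat.card V = 8)
    {x y : V} (hx : x ≠ 0) (hy : y ≠ 0) :
    ∃ g ∈ G, (g : AddMonoid.End V) x = y := by
  obtain ⟨hW4, hQ2⟩ := hT.card_of_eight h8
  obtain ⟨b, hb, hb0⟩ := hT.Qne
  have hQ : ∀ q ∈ Q, q = 0 ∨ q = b := by
    intro q hq
    by_contra h
    push Not at h
    have hsub : ({0, b, q} : Set V) ⊆ (Q : Set V) := by
      rintro z (rfl | rfl | rfl)
      exacts [Q.zero_mem, hb, hq]
    have h3 : Set.ncard ({0, b, q} : Set V) = 3 := by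
      rw [Set.ncard_insert_of_notMem (by simp [hb0.symm, h.1.symm]), Set.ncard_pair h.2.symm]
    have := Set.ncard_le_ncard hsub
    rw [h3] at this
    rw [← SetLike.coe_sort_coe, Nat.card_coe_set_eq] at hQ2
    omega
  have hbW : b ∉ W := fun h => hb0 (hT.disj b h hb)
  set O := MulAction.orbit ↥G b with hOdef
  have hOmem : ∀ {z : V}, z ∈ O → ∀ g ∈ G, (g : AddMonoid.End V) z ∈ O := fun hz g hg => by
    have := MulAction.mem_orbit_of_mem_orbit (⟨g, hg⟩ : G) hz
    exact this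
  have hbO : b ∈ O := MulAction.mem_orbit_self b
  have hO0 : ∀ z ∈ O, z ≠ 0 := by
    rintro z ⟨g, rfl⟩ h0
    refine hb0 ?_
    have h0' : ((g : (AddMonoid.End V)ˣ) : AddMonoid.End V) b = 0 := h0
    have h1 := congrArg ((↑((g : (AddMonoid.End V)ˣ)⁻¹) : AddMonoid.End V)) h0'
    rwa [map_zero, show (↑((g : (AddMonoid.End V)ˣ)⁻¹) : AddMonoid.End V)
      (((g : (AddMonoid.End V)ˣ) : AddMonoid.End V) b) = b from
        DFunLike.congr_fun (g : (AddMonoid.End V)ˣ).inv_mul b] at h1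
  have hodd : Odd (Set.ncard O) := by
    rw [← Nat.card_coe_set_eq]
    haveI := end_finite (V := V)
    haveI : Finite ↥G := Subtype.finite
    refine hG.odd.of_dvd_nat ?_
    rw [Nat.card_congr (MulAction.orbitEquivQuotientStabilizer ↥G b)]
    exact Subgroup.card_quotient_dvd_card _
  -- a coset of `W` meeting the orbit away from `Q` lies in it
  have hcoset : ∀ c ∈ Q, ∀ w ∈ W, w ≠ 0 → c + w ∈ O → ∀ w' ∈ W, w' ≠ 0 → c + w' ∈ O := by
    intro c hc w hw hw0 hO w' hw' hw0'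
    obtain ⟨j, hj⟩ := hT.trans w hw hw0 w' hw' hw0'
    have := hOmem hO (t ^ j) (pow_mem ht j)
    rwa [map_add, Units.val_pow_eq_pow_val, IsTor.pow_fix (hT.fix c hc) j, hj] at this
  have hcases : ∀ z : V, z ≠ 0 → z = b ∨ ∃ w ∈ W, w ≠ 0 ∧ (z = 0 + w ∨ z = b + w) := by
    intro z hz
    obtain ⟨w, hw, q, hq, rfl⟩ := hT.span z
    by_cases hw0 : w = 0
    · subst hw0
      rw [zero_add] at hz ⊢
      exact .inl ((hQ q hq).resolve_left hz)
    · right
      refine ⟨w, hw, hw0, ?_⟩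
      rcases hQ q hq with rfl | rfl
      · exact .inl (by rw [add_zero, zero_add])
      · exact .inr (add_comm _ _)
  have hcount : ∀ c ∈ Q, (c = 0 ∨ c = b) → (∀ w ∈ W, w ≠ 0 → c + w ∈ O) →
      ∃ z ∈ O, z ≠ b ∧ ∀ w ∈ W, w ≠ 0 → z ≠ c + w := by
    intro c hc hcb hsub
    by_contra hcon
    push Not at hcon
    have heq : O = insert b ((fun w => c + w) '' ((W : Set V) \ {0})) := by
      ext z
      constructor
      · intro hz
        by_cases hzb : z = b
        · exact .inl hzb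
        · obtain ⟨w, hw, hw0, rfl⟩ := hcon z hz hzb
          exact .inr ⟨w, ⟨hw, hw0⟩, rfl⟩
      · rintro (rfl | ⟨w, ⟨hw, hw0⟩, rfl⟩)
        exacts [hbO, hsub w hw hw0]
    have hnb : b ∉ (fun w => c + w) '' ((W : Set V) \ {0}) := by
      rintro ⟨w, ⟨hw, hw0⟩, he⟩
      rcases hcb with rfl | rfl
      · exact hbW (by rw [← he]; simpa using hw)
      · exact hw0 (by simpa using he)
    rw [heq, Set.ncard_insert_of_notMem hnb, Set.ncard_image_of_injective _ (add_right_injective c),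
      Set.ncard_sdiff_singleton_of_mem W.zero_mem] at hodd
    rw [← SetLike.coe_sort_coe, Nat.card_coe_set_eq] at hW4
    rw [hW4] at hodd
    exact absurd hodd (by decide)
  have hall : ∀ z : V, z ≠ 0 → z ∈ O := by
    -- the orbit is not `{b}`
    obtain ⟨z, hz, hzb⟩ : ∃ z ∈ O, z ≠ b := by
      by_contra h
      push Not at h
      rcases hG.irr (AddSubgroup.zmultiples b) (fun g hg v hv => by
        obtain ⟨k, rfl⟩ := AddSubgroup.mem_zmultiples_iff.1 hv
        rw [map_zsmul, h _ (hOmem hbO g hg)]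
        exact AddSubgroup.mem_zmultiples_iff.2 ⟨k, rfl⟩) with h' | h'
      · exact hb0 (AddSubgroup.zmultiples_eq_bot.1 h')
      · have hle : AddSubgroup.zmultiples b ≤ Q := AddSubgroup.zmultiples_le.2 hb
        have := AddSubgroup.card_le_of_le hle
        rw [h', AddSubgroup.card_top, h8, hQ2] at this
        omega
    obtain ⟨w, hw, hw0, hzw⟩ := (hcases z (hO0 z hz)).resolve_left hzb
    -- both cosets lie in the orbit
    have hboth : ∀ c ∈ Q, (c = 0 ∨ c = b) → ∀ w ∈ W, w ≠ 0 → c + w ∈ O →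
        ∀ d ∈ Q, (d = 0 ∨ d = b) → ∀ w' ∈ W, w' ≠ 0 → d + w' ∈ O := by
      intro c hc hcb w hw hw0 hO d hd hdb w' hw' hw0'
      by_cases hdc : d = c
      · exact hdc ▸ hcoset c hc w hw hw0 hO w' hw' hw0'
      obtain ⟨z, hz, hzb, hzne⟩ := hcount c hc hcb (hcoset c hc w hw hw0 hO)
      obtain ⟨u, hu, hu0, hzu⟩ := (hcases z (hO0 z hz)).resolve_left hzb
      have hzd : z = d + u := by
        rcases hcb with rfl | rfl
        · obtain rfl := hdb.resolve_left hdc
          exact hzu.resolve_left (hzne u hu hu0)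
        · obtain rfl := hdb.resolve_right hdc
          exact hzu.resolve_right (hzne u hu hu0)
      exact hcoset d hd u hu hu0 (hzd ▸ hz) w' hw' hw0'
    intro v hv
    rcases hcases v hv with rfl | ⟨u, hu, hu0, hvu⟩
    · exact hbO
    rcases hzw with rfl | rfl <;> rcases hvu with rfl | rfl
    · exact hboth 0 Q.zero_mem (.inl rfl) w hw hw0 hz 0 Q.zero_mem (.inl rfl) u hu hu0
    · exact hboth 0 Q.zero_mem (.inl rfl) w hw hw0 hz b hb (.inr rfl) u hu hu0
    · exact hboth b hb (.inr rfl) w hw hw0 hz 0 Q.zero_mem (.inl rfl) u hu hu0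
    · exact hboth b hb (.inr rfl) w hw hw0 hz b hb (.inr rfl) u hu hu0
  obtain ⟨g, hg⟩ := hall x hx
  obtain ⟨k, hk⟩ := hall y hy
  refine ⟨(k : (AddMonoid.End V)ˣ) * (g : (AddMonoid.End V)ˣ)⁻¹,
    mul_mem k.2 (inv_mem g.2), ?_⟩
  rw [← hg]
  show ((k : (AddMonoid.End V)ˣ) : AddMonoid.End V)
    ((↑((g : (AddMonoid.End V)ˣ)⁻¹) : AddMonoid.End V)
      (((g : (AddMonoid.End V)ˣ) : AddMonoid.End V) b)) = y
  rw [show (↑((g : (AddMonoid.End V)ˣ)⁻¹) : AddMonoid.End V)
      (((g : (AddMonoid.End V)ˣ) : AddMonoid.End V) b) = b from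
        DFunLike.congr_fun (g : (AddMonoid.End V)ˣ).inv_mul b]
  exact hk

end Cfsg.Agent.Lib.Walter.Comb
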