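import Cfsg.Agent.Lib.Walter.Comb.Translate

/-!
# Section K: the combinatorics of a pair system

A pair system with a pair is of Janko–Ree type (`|Ω₁(S)| = 8`) or monomial.  Every pair lies under a
block; outside order eight any two blocks share an element of their second parts, hence are
orthogonal.
-/

set_option autoImplicit false
set_option linter.style.haveILetI false

namespace Cfsg.Agent.Lib.Walter.Comb

open Subgroup

universe u

variable {G : Type u} [Group G] [Finite G] {S : Sylow 2 G}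
  {P : Subgroup G → Subgroup G → Subgroup G → Prop}

omit [Finite G] in
theorem map_conj_mul (K : Subgroup G) (a b : G) :
    K.map (MulAut.conj (a * b)).toMonoidHom =
      (K.map (MulAut.conj b).toMonoidHom).map (MulAut.conj a).toMonoidHom := by
  rw [Subgroup.map_map]
  congr 1
  exact MonoidHom.ext fun x => by simp [mul_assoc]

omit [Finite G] in
/-- A pair passes to the cyclic subgroups of its second part or grows. -/
theorem pair_down (hP : PairSystem S P) {B W Q : Subgroup G} (h : P B W Q) {b : G} (hb : b ∈ Q)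
    (hb1 : b ≠ 1) : ∃ W₁ Q₁, P (zpowers b) W₁ Q₁ ∧ W ≤ W₁ ∧ Q₁ ≤ Q ∧
      (W = W₁ ∧ Q = Q₁ ∨ Nat.card W = 4 ∧ Nat.card W₁ = 8) :=
  hP.down (zpowers b) Q W Q (hP.up B Q W Q h (hP.le_Q B W Q h) le_rfl) (zpowers_le.2 hb)
    (fun h0 => hb1 (zpowers_eq_bot.1 h0))

omit [Finite G] in
/-- Every pair lies under a block. -/
theorem exists_block (hP : PairSystem S P) {B W Q : Subgroup G} (h : P B W Q) :
    ∃ W₁ Q₁, IsBlock P W₁ Q₁ ∧ (∃ b, P (zpowers b) W₁ Q₁) ∧ W ≤ W₁ ∧ Q₁ ≤ Q := by
  by_cases hblk : IsBlock P W Q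
  · obtain ⟨⟨b, hb⟩, hb1⟩ := ne_bot_iff_exists_ne_one.1 (hP.base_ne B W Q h)
    exact ⟨W, Q, hblk, ⟨b, hblk b (hP.le_Q B W Q h hb) fun h1 => hb1 (Subtype.ext h1)⟩,
      le_rfl, le_rfl⟩
  · simp only [IsBlock, not_forall] at hblk
    obtain ⟨b, hb, hb1, hbn⟩ := hblk
    obtain ⟨W₁, Q₁, h₁, hWle, hQle, hor⟩ := pair_down hP h hb hb1
    rcases hor with ⟨rfl, rfl⟩ | ⟨h4, h8⟩
    · exact absurd h₁ hbn
    refine ⟨W₁, Q₁, fun c hc hc1 => ?_, ⟨b, h₁⟩, hWle, hQle⟩
    obtain ⟨W₂, Q₂, h₂, -, -, hor'⟩ := pair_down hP h₁ hc hc1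
    rcases hor' with ⟨rfl, rfl⟩ | ⟨h4', -⟩
    · exact h₂
    · omega

omit [Finite G] in
/-- A subgroup generated by a union of subgroups permuted by `N(S)` is invariant. -/
theorem iSup_invariant {κ : Type*} (W : κ → Subgroup G)
    (h : ∀ n ∈ normalizer ((S : Subgroup G) : Set G), ∀ i, ∃ j,
      (W i).map (MulAut.conj n).toMonoidHom = W j) :
    ∀ n ∈ normalizer ((S : Subgroup G) : Set G), ∀ x ∈ ⨆ i, W i, n * x * n⁻¹ ∈ ⨆ i, W i := by
  intro n hn x hx
  have h1 : (⨆ i, W i).map (MulAut.conj n).toMonoidHom ≤ ⨆ i, W i := by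
    rw [Subgroup.map_iSup]
    refine iSup_le fun i => ?_
    obtain ⟨j, hj⟩ := h n hn i
    rw [hj]
    exact le_iSup W j
  exact h1 ⟨x, hx, rfl⟩

/-- The case of Janko–Ree type. -/
theorem caseJR (hS : IsMulCommutative (S : Subgroup G)) (hI : Irreducible S) (hO : OddAction S)
    (hP : PairSystem S P) (h8 : Nat.card ↥(Om S) = 8) {B W Q : Subgroup G} (h : P B W Q) :
    CaseJR S P := by
  haveI := isMulCommutative_Om hS
  obtain ⟨hW, hQ, htrans⟩ := eight hS hI hO hP h8 h
  refine ⟨h8, htrans, fun a ha ha1 => ?_⟩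
  obtain ⟨⟨b, hb⟩, hb1⟩ := ne_bot_iff_exists_ne_one.1 (hP.base_ne B W Q h)
  have hb1' : b ≠ 1 := fun h1 => hb1 (Subtype.ext h1)
  have hbQ : b ∈ Q := hP.le_Q B W Q h hb
  haveI : Finite Q := inferInstance
  have hQb : zpowers b = Q := by
    refine eq_of_le_of_card_ge (zpowers_le.2 hbQ) ?_
    rw [hQ, Nat.card_zpowers]
    have h0 := (isOfFinOrder_of_finite b).orderOf_pos
    have h1 : orderOf b ≠ 1 := fun h => hb1' (orderOf_eq_one_iff.1 h)
    omega
  have hBQ : B = Q := le_antisymm (hP.le_Q B W Q h) (hQb ▸ zpowers_le.2 hb)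
  obtain ⟨n, hn, hna⟩ := htrans b (hP.Q_le B W Q h hbQ) hb1' a ha ha1
  refine ⟨W.map (MulAut.conj n).toMonoidHom, ?_, ?_⟩
  · have hc := hP.conj n hn B W Q h
    rw [hBQ, ← hQb, MonoidHom.map_zpowers,
      show (MulAut.conj n).toMonoidHom b = a from hna] at hc
    exact hc
  · rw [Subgroup.card_map_of_injective (MulAut.conj n).injective, hW]

/-- The monomial case. -/
theorem caseMono (hS : IsMulCommutative (S : Subgroup G)) (hI : Irreducible S) (hO : OddAction S)
    (hP : PairSystem S P) (h8 : Nat.card ↥(Om S) ≠ 8) {B W Q : Subgroup G} (h : P B W Q) :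
    ∃ (ι : Type) (_ : Finite ι) (W Q : ι → Subgroup G), CaseMono S P ι W Q := by
  classical
  haveI := isMulCommutative_Om hS
  let Blk := {x : Subgroup G × Subgroup G // IsBlock P x.1 x.2 ∧ ∃ b, P (zpowers b) x.1 x.2}
  haveI : Finite Blk := inferInstance
  let e : Fin (Nat.card Blk) ≃ Blk := (Finite.equivFin Blk).symm
  let W' : Fin (Nat.card Blk) → Subgroup G := fun i => (e i).1.1
  let Q' : Fin (Nat.card Blk) → Subgroup G := fun i => (e i).1.2
  have hblock : ∀ i, IsBlock P (W' i) (Q' i) := fun i => (e i).2.1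
  have hpair : ∀ i, ∃ b, P (zpowers b) (W' i) (Q' i) := fun i => (e i).2.2
  have hidx : ∀ W₁ Q₁, IsBlock P W₁ Q₁ → (∃ b, P (zpowers b) W₁ Q₁) →
      ∃ i, W' i = W₁ ∧ Q' i = Q₁ := by
    intro W₁ Q₁ h1 h2
    refine ⟨e.symm ⟨(W₁, Q₁), h1, h2⟩, ?_, ?_⟩ <;>
    simp [W', Q']
  have hWle : ∀ i, W' i ≤ Om S := fun i => by
    obtain ⟨b, hb⟩ := hpair i; exact hP.W_le _ _ _ hb
  have hQle : ∀ i, Q' i ≤ Om S := fun i => by
    obtain ⟨b, hb⟩ := hpair i; exact hP.Q_le _ _ _ hb
  have hdisj : ∀ i, W' i ⊓ Q' i = ⊥ := fun i => by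
    obtain ⟨b, hb⟩ := hpair i; exact hP.disj _ _ _ hb
  have hfour : ∀ i, 4 ≤ Nat.card (W' i) := fun i => by
    obtain ⟨b, hb⟩ := hpair i; exact hP.four_le _ _ _ hb
  have hWne : ∀ i, W' i ≠ ⊥ := fun i h0 => by
    have := hfour i
    rw [h0, card_bot] at this
    omega
  have hQne : ∀ i, Q' i ≠ ⊥ := fun i h0 => by
    obtain ⟨b, hb⟩ := hpair i
    exact hP.base_ne _ _ _ hb (le_bot_iff.1 (h0 ▸ hP.le_Q _ _ _ hb))
  have hleQ : ∀ i j, i ≠ j → W' j ≤ Q' i := by
    intro i j hij
    obtain ⟨b, hb⟩ := hpair i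
    obtain ⟨b', hb'⟩ := hpair j
    obtain ⟨q, hq, hq', hq1⟩ := pair_inter hS hI hO hP h8 hb hb'
    have hi := hblock i q hq hq1
    have hj := hblock j q hq' hq1
    refine hP.orth _ _ _ _ _ hi hj fun hW => hij (e.injective (Subtype.ext (Prod.ext hW ?_)))
    exact hP.unique _ _ _ _ hi (by rw [hW]; exact hj)
  have hinjW : ∀ a b, W' a = W' b → a = b := by
    intro a b hab
    by_contra hne
    refine hWne b (le_bot_iff.1 ?_)
    rw [← hdisj a]
    exact le_inf hab.ge (hleQ a b hne)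
  have hperm : ∀ n ∈ normalizer ((S : Subgroup G) : Set G), ∀ i, ∃ j,
      (W' i).map (MulAut.conj n).toMonoidHom = W' j ∧ (Q' i).map (MulAut.conj n).toMonoidHom = Q' j := by
    intro n hn i
    have key : ∀ b, P (zpowers b) (W' i) (Q' i) → P (zpowers ((MulAut.conj n).toMonoidHom b))
        ((W' i).map (MulAut.conj n).toMonoidHom) ((Q' i).map (MulAut.conj n).toMonoidHom) := by
      intro b hb
      have := hP.conj n hn _ _ _ hb
      rwa [MonoidHom.map_zpowers] at this
    obtain ⟨j, hjW, hjQ⟩ := hidx _ _ (by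
      rintro _ ⟨b, hb, rfl⟩ hb1
      exact key b (hblock i b hb fun h1 => hb1 (by rw [h1, map_one])))
      ⟨_, key _ (hpair i).choose_spec⟩
    exact ⟨j, hjW.symm, hjQ.symm⟩
  obtain ⟨W₀, Q₀, hb₀, he₀, -, -⟩ := exists_block hP h
  obtain ⟨i₀, -, -⟩ := hidx W₀ Q₀ hb₀ he₀
  have htop : ∀ (κ : Type) (g : κ → Fin (Nat.card Blk)) (k : κ),
      (∀ n ∈ normalizer ((S : Subgroup G) : Set G), ∀ a, ∃ c,
        (W' (g a)).map (MulAut.conj n).toMonoidHom = W' (g c)) →
      (⨆ a, W' (g a)) = Om S := by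
    intro κ g k hg
    refine (hI _ (iSup_le fun a => hWle _) (iSup_invariant _ hg)).resolve_left fun h0 => ?_
    exact hWne (g k) (le_bot_iff.1 (h0 ▸ le_iSup (fun a => W' (g a)) k))
  have hspan : (⨆ i, W' i) = Om S := htop _ id i₀ fun n hn a => ⟨_, (hperm n hn a).choose_spec.1⟩
  refine ⟨Fin (Nat.card Blk), inferInstance, W', Q',
    ⟨?_, hblock, hfour, hWle, hleQ, hspan, hdisj, ?_, ?_, hperm, ?_⟩⟩
  · -- at least three blocks
    by_contra h3
    rw [Nat.card_eq_fintype_card, Fintype.card_fin] at h3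
    have hfix : ∀ n ∈ normalizer ((S : Subgroup G) : Set G), ∀ x ∈ W' i₀,
        n * x * n⁻¹ ∈ W' i₀ := by
      intro n hn
      obtain ⟨j, hj, -⟩ := hperm n hn i₀
      obtain ⟨k, hk, -⟩ := hperm n hn j
      obtain ⟨m, hm, htriv⟩ := hO n hn
      have key : j = i₀ ∨ k = i₀ := by
        by_contra hne
        push Not at hne
        by_cases hjk : k = j
        · rw [hjk] at hk
          exact hne.1 (hinjW j i₀
            (Subgroup.map_injective (MulAut.conj n).injective (hk.trans hj.symm)))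
        · have h1 := j.isLt; have h2 := k.isLt; have h3' := i₀.isLt
          have a1 : (j : ℕ) ≠ i₀ := fun h => hne.1 (Fin.ext h)
          have a2 : (k : ℕ) ≠ i₀ := fun h => hne.2 (Fin.ext h)
          have a3 : (k : ℕ) ≠ j := fun h => hjk (Fin.ext h)
          omega
      have hfin : ∀ y : G, (W' i₀).map (MulAut.conj y).toMonoidHom = W' i₀ →
          y ∈ normalizer ((W' i₀) : Set G) := by
        intro y hy
        rw [Subgroup.mem_normalizer_iff_map_conj_eq]
        exact hy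
      have hmemN : n ∈ normalizer ((W' i₀) : Set G) := by
        rcases key with he | he
        · exact hfin n (by rw [hj, he])
        · have h2 : n * n ∈ normalizer ((W' i₀) : Set G) := hfin _ (by
            rw [map_conj_mul, hj, hk, he])
          have hm' : n ^ m ∈ normalizer ((W' i₀) : Set G) := Subgroup.mem_normalizer_iff.2 fun x => by
            constructor
            · intro hx
              rwa [htriv x (Om_le S (hWle _ hx))]
            · intro hx
              have h1 : x = (n ^ m)⁻¹ * (n ^ m * x * (n ^ m)⁻¹) * n ^ m := by group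
              have h2' := htriv _ (Om_le S (hWle _ hx))
              have : (n ^ m)⁻¹ * (n ^ m * x * (n ^ m)⁻¹) * n ^ m = n ^ m * x * (n ^ m)⁻¹ := by
                conv_lhs => rw [← h2']
                group
              rwa [h1, this]
          obtain ⟨l, rfl⟩ := hm
          have : n = ((n * n) ^ l)⁻¹ * n ^ (2 * l + 1) := by
            rw [pow_succ, pow_mul, pow_two, inv_mul_cancel_left]
          rw [this]
          exact mul_mem (inv_mem (pow_mem h2 l)) hm'
      exact fun x hx => (Subgroup.mem_normalizer_iff.1 hmemN x).1 hx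
    rcases hI _ (hWle i₀) hfix with h0 | h0
    · exact hWne i₀ h0
    · refine hQne i₀ (le_bot_iff.1 ?_)
      rw [← hdisj i₀, h0]
      exact le_inf (hQle i₀) le_rfl
  · intro i
    refine le_antisymm (iSup_le fun j => hleQ i j.1 (Ne.symm j.2)) fun q hq => ?_
    have hsup : W' i ⊔ (⨆ j : {j // j ≠ i}, W' j.1) = Om S := by
      rw [← hspan]
      refine le_antisymm (sup_le (le_iSup W' i) (iSup_le fun j => le_iSup W' j.1))
        (iSup_le fun j => ?_)
      by_cases hj : j = i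
      · exact hj ▸ le_sup_left
      · exact le_sup_of_le_right (le_iSup (fun j : {j // j ≠ i} => W' j.1) ⟨j, hj⟩)
    obtain ⟨w, hw, r, hr, rfl⟩ := mem_sup_comm (A := Om S)
      (fun a ha b hb => comm_Om hS (Om_le S ha) (Om_le S hb)) (hWle i)
      (iSup_le fun j : {j // j ≠ i} => hWle j.1) (hsup.symm ▸ hQle i hq)
    have hrQ : r ∈ Q' i := iSup_le (fun j : {j // j ≠ i} => hleQ i j.1 (Ne.symm j.2)) hr
    have : w ∈ W' i ⊓ Q' i := ⟨hw, by
      have := mul_mem hq (inv_mem hrQ)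
      rwa [mul_inv_cancel_right] at this⟩
    rw [hdisj i, mem_bot] at this
    rw [this, one_mul]
    exact hr
  · -- `N(S)` is transitive on the blocks
    intro i j
    let κ := {k // ∃ n ∈ normalizer ((S : Subgroup G) : Set G),
      (W' i).map (MulAut.conj n).toMonoidHom = W' k}
    by_cases hj : ∃ n ∈ normalizer ((S : Subgroup G) : Set G),
      (W' i).map (MulAut.conj n).toMonoidHom = W' j
    · obtain ⟨n, -, hn⟩ := hj
      rw [← hn, Subgroup.card_map_of_injective (MulAut.conj n).injective]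
    exfalso
    have hrefl : (W' i).map (MulAut.conj (1 : G)).toMonoidHom = W' i := by
      rw [map_one]; exact Subgroup.map_id _
    have hall : (⨆ a : κ, W' a.1) = Om S := htop κ (fun a => a.1) ⟨i, 1, one_mem _, hrefl⟩
      fun n hn a => by
        obtain ⟨c, hc, -⟩ := hperm n hn a.1
        obtain ⟨m, hm, hma⟩ := a.2
        exact ⟨⟨c, n * m, mul_mem hn hm, by
          rw [map_conj_mul, hma, hc]⟩, hc⟩
    refine hWne j (le_bot_iff.1 ?_)
    rw [← hdisj j]
    refine le_inf le_rfl ((hWle j).trans ?_)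
    rw [← hall]
    exact iSup_le fun a => hleQ j a.1 fun he => hj (he ▸ a.2)
  · intro B V R hPV
    obtain ⟨W₁, Q₁, h1, h2, hle, hle'⟩ := exists_block hP hPV
    obtain ⟨i, rfl, rfl⟩ := hidx W₁ Q₁ h1 h2
    exact ⟨i, hle, hle'⟩

/-- Section K. -/
theorem propComb : PropComb.{u} := by
  intro G _ _ S P hS hI hO hP hex
  obtain ⟨B, W, Q, h⟩ := hex
  by_cases h8 : Nat.card ↥(Om S) = 8
  · exact .inl (caseJR hS hI hO hP h8 h)
  · exact .inr (caseMono hS hI hO hP h8 h)

end Cfsg.Agent.Lib.Walter.Comb
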