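import Mathlib.Algebra.Ring.Subring.Basic
import Mathlib.GroupTheory.OrderOfElement
import Mathlib.GroupTheory.Solvable
import Mathlib.Tactic

/-!
# A planar lemma for groups of odd order in characteristic two

A solvable group of odd order acting linearly on a space of dimension at most two over a finite
field of characteristic two is commutative.  The field is given as a commutative ring `L` of
endomorphisms of an elementary abelian 2-group whose nonzero elements are injective.
-/

set_option autoImplicit false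

namespace Cfsg.Agent.Lib.Walter.Comb

open scoped commutatorElement

variable {V : Type*} [AddCommGroup V]

theorem end_finite [Finite V] : Finite (AddMonoid.End V) :=
  Finite.of_injective (fun f : AddMonoid.End V => ((f : V → V))) DFunLike.coe_injective

theorem end_add_self (h2 : ∀ v : V, v + v = 0) (x : AddMonoid.End V) : x + x = 0 :=
  AddMonoidHom.ext fun v => h2 (x v)

theorem end_neg (h2 : ∀ v : V, v + v = 0) (x : AddMonoid.End V) : -x = x :=
  (eq_neg_of_add_eq_zero_left (end_add_self h2 x)).symm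

theorem neg_self (h2 : ∀ v : V, v + v = 0) (v : V) : -v = v :=
  (eq_neg_of_add_eq_zero_left (h2 v)).symm

theorem sub_self_eq (h2 : ∀ v : V, v + v = 0) (v w : V) : v - w = v + w := by
  rw [sub_eq_add_neg, neg_self h2]

theorem end_sub (h2 : ∀ v : V, v + v = 0) (x y : AddMonoid.End V) : x - y = x + y := by
  rw [sub_eq_add_neg, end_neg h2]

/-- Some positive power of an element of a finite monoid is idempotent. -/
theorem exists_pow_idem {R : Type*} [Monoid R] [Finite R] (x : R) :
    ∃ N : ℕ, 0 < N ∧ x ^ N * x ^ N = x ^ N := by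
  obtain ⟨i, j, hne, h⟩ := Finite.exists_ne_map_eq_of_infinite (fun n : ℕ => x ^ n)
  wlog hij : i < j generalizing i j
  · exact this j i hne.symm h.symm (by omega)
  replace h : x ^ i = x ^ j := h
  have step : ∀ m : ℕ, i ≤ m → ∀ l : ℕ, x ^ (m + l * (j - i)) = x ^ m := by
    intro m hm l
    induction l with
    | zero => simp
    | succ l ih =>
      have : m + (l + 1) * (j - i) = (m - i) + (j + l * (j - i)) := by
        rw [Nat.succ_mul]; omega
      rw [this, pow_add, pow_add x j, ← h, ← pow_add, ← pow_add]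
      have : m - i + (i + l * (j - i)) = m + l * (j - i) := by omega
      rw [this, ih]
  refine ⟨(i + 1) * (j - i), Nat.mul_pos (by omega) (by omega), ?_⟩
  rw [← pow_add]
  exact step _ (le_trans (Nat.le_succ i) (Nat.le_mul_of_pos_right _ (by omega))) (i + 1)

/-- An injective member of a subring of endomorphisms of a finite group is invertible in it. -/
theorem exists_inv_mem [Finite V] (L : Subring (AddMonoid.End V)) {x : AddMonoid.End V}
    (hx : x ∈ L) (hinj : ∀ v, x v = 0 → v = 0) : ∃ y ∈ L, y * x = 1 ∧ x * y = 1 := by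
  haveI := end_finite (V := V)
  obtain ⟨N, hN, hid⟩ := exists_pow_idem x
  have hpow : ∀ m : ℕ, ∀ v, (x ^ m) v = 0 → v = 0 := by
    intro m
    induction m with
    | zero => exact fun v hv => hv
    | succ m ih =>
      intro v hv
      rw [pow_succ] at hv
      exact hinj v (ih (x v) hv)
  have h1 : x ^ N = 1 := by
    refine AddMonoidHom.ext fun v => sub_eq_zero.1 (hpow N _ ?_)
    show (x ^ N) ((x ^ N) v - v) = 0
    rw [map_sub, sub_eq_zero]
    exact DFunLike.congr_fun hid v
  refine ⟨x ^ (N - 1), L.pow_mem hx _, ?_, ?_⟩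
  · rw [← pow_succ, Nat.sub_add_cancel hN, h1]
  · rw [← pow_succ', Nat.sub_add_cancel hN, h1]

/-- An element of odd order is a power of its square. -/
theorem exists_sq_pow {Γ : Type*} [Group Γ] [Finite Γ] {J : Subgroup Γ} (hJ : Odd (Nat.card J))
    {x : Γ} (hx : x ∈ J) : ∃ m : ℕ, (x ^ 2) ^ m = x := by
  obtain ⟨l, hl⟩ := hJ
  refine ⟨l + 1, ?_⟩
  have h1 : x ^ Nat.card J = 1 := by
    have := pow_card_eq_one' (x := (⟨x, hx⟩ : J))
    exact congrArg Subtype.val this
  rw [← pow_mul, show 2 * (l + 1) = Nat.card J + 1 by omega, pow_succ, h1, one_mul]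

section Planar

variable [Finite V] {L : Subring (AddMonoid.End V)}

/-- An endomorphism commuting with `L` is in `L` or has a cyclic vector. -/
theorem mem_or_cyclic (hc : ∀ a ∈ L, ∀ b ∈ L, a * b = b * a)
    (hinj : ∀ a ∈ L, a ≠ 0 → ∀ v, a v = 0 → v = 0) (hcard : Nat.card V ≤ Nat.card L ^ 2)
    {x : AddMonoid.End V} (hx : ∀ a ∈ L, a * x = x * a) :
    x ∈ L ∨ ∃ v : V, (∀ a ∈ L, ∀ b ∈ L, a v + b (x v) = 0 → a = 0 ∧ b = 0) ∧
      ∀ u : V, ∃ a ∈ L, ∃ b ∈ L, a v + b (x v) = u := by
  by_cases h : ∀ v : V, ∃ a ∈ L, x v = a v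
  · left
    by_cases hV : ∀ v : V, v = 0
    · rw [show x = 0 from AddMonoidHom.ext fun v => (hV (x v)).trans (hV _).symm]
      exact L.zero_mem
    obtain ⟨v, hv⟩ := not_forall.1 hV
    obtain ⟨a, ha, hav⟩ := h v
    suffices hxa : x = a by rw [hxa]; exact ha
    refine AddMonoidHom.ext fun w => ?_
    show x w = a w
    by_cases hw : ∃ c ∈ L, w = c v
    · obtain ⟨c, hcm, rfl⟩ := hw
      calc x (c v) = (x * c) v := rfl
        _ = (c * x) v := by rw [hx c hcm]
        _ = (c * a) v := by show c (x v) = c (a v); rw [hav]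
        _ = (a * c) v := by rw [hc c hcm a ha]
        _ = a (c v) := rfl
    obtain ⟨b, hb, hbw⟩ := h w
    obtain ⟨c, hcm, hcw⟩ := h (v + w)
    have hzero : (a - c) v + (b - c) w = 0 := by
      show a v - c v + (b w - c w) = 0
      rw [← hav, ← hbw]
      calc x v - c v + (x w - c w) = x v + x w - (c v + c w) := by abel
        _ = x (v + w) - c (v + w) := by rw [map_add, map_add]
        _ = 0 := by rw [hcw, sub_self]
    have hbc : b - c = 0 := by
      by_contra hne
      obtain ⟨y, hy, hy1, -⟩ := exists_inv_mem L (L.sub_mem hb hcm) (hinj _ (L.sub_mem hb hcm) hne)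
      refine hw ⟨-(y * (a - c)), L.neg_mem (L.mul_mem hy (L.sub_mem ha hcm)), ?_⟩
      have := congrArg y hzero
      rw [map_add, map_zero, show y ((b - c) w) = (y * (b - c)) w from rfl, hy1] at this
      calc w = -(y ((a - c) v)) := eq_neg_of_add_eq_zero_right this
        _ = (-(y * (a - c))) v := rfl
    have hac : a - c = 0 := by
      by_contra hne
      rw [hbc] at hzero
      exact hv (hinj _ (L.sub_mem ha hcm) hne v (by simpa using hzero))
    rw [hbw, sub_eq_zero.1 hbc, ← sub_eq_zero.1 hac]
  · right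
    obtain ⟨v, hv⟩ := not_forall.1 h
    push Not at hv
    have hv0 : v ≠ 0 := fun h0 => hv 0 L.zero_mem (by rw [h0, map_zero, map_zero])
    have hind : ∀ a ∈ L, ∀ b ∈ L, a v + b (x v) = 0 → a = 0 ∧ b = 0 := by
      intro a ha b hb he
      have hb0 : b = 0 := by
        by_contra hne
        obtain ⟨y, hy, hy1, -⟩ := exists_inv_mem L hb (hinj b hb hne)
        refine hv (-(y * a)) (L.neg_mem (L.mul_mem hy ha)) ?_
        have := congrArg y he
        rw [map_add, map_zero, show y (b (x v)) = (y * b) (x v) from rfl, hy1] at this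
        exact eq_neg_of_add_eq_zero_right this
      subst hb0
      refine ⟨?_, rfl⟩
      by_contra hne
      exact hv0 (hinj a ha hne v (by simpa using he))
    refine ⟨v, hind, ?_⟩
    let f : L × L → V := fun p => (p.1 : AddMonoid.End V) v + (p.2 : AddMonoid.End V) (x v)
    have hf : Function.Injective f := by
      intro p q hpq
      have := hind _ (L.sub_mem p.1.2 q.1.2) _ (L.sub_mem p.2.2 q.2.2) (by
        show (p.1 : AddMonoid.End V) v - (q.1 : AddMonoid.End V) v +
          ((p.2 : AddMonoid.End V) (x v) - (q.2 : AddMonoid.End V) (x v)) = 0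
        rw [sub_add_sub_comm, sub_eq_zero]
        exact hpq)
      exact Prod.ext (Subtype.ext (sub_eq_zero.1 this.1)) (Subtype.ext (sub_eq_zero.1 this.2))
    haveI := end_finite (V := V)
    intro u
    obtain ⟨⟨a, b⟩, hab⟩ := (hf.bijective_of_nat_card_le (by
      rw [Nat.card_prod, ← pow_two]; exact hcard)).2 u
    exact ⟨a, a.2, b, b.2, hab⟩

/-- With a cyclic vector, the centraliser of `x` over `L` is `L + L x`. -/
theorem eq_of_cyclic {x y : AddMonoid.End V} {v : V}
    (hspan : ∀ u : V, ∃ a ∈ L, ∃ b ∈ L, a v + b (x v) = u)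
    (hx : ∀ a ∈ L, a * x = x * a) (hy : ∀ a ∈ L, a * y = y * a)
    (hc : ∀ a ∈ L, ∀ b ∈ L, a * b = b * a) (hxy : y * x = x * y) :
    ∃ a ∈ L, ∃ b ∈ L, y = a + b * x := by
  obtain ⟨a, ha, b, hb, hab⟩ := hspan (y v)
  refine ⟨a, ha, b, hb, AddMonoidHom.ext fun u => ?_⟩
  obtain ⟨c, hcm, d, hd, rfl⟩ := hspan u
  have key : ∀ e ∈ L, y (e v) = (a + b * x) (e v) := by
    intro e he
    have h1 : y (e v) = e (y v) := (DFunLike.congr_fun (hy e he) v).symm
    have h2 : (a + b * x) * e = e * (a + b * x) := by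
      rw [add_mul, mul_add, hc a ha e he, mul_assoc, ← hx e he, ← mul_assoc, hc b hb e he,
        mul_assoc]
    rw [h1, ← hab]
    exact (DFunLike.congr_fun h2 v).symm
  have h3 : (a + b * x) * x = x * (a + b * x) := by
    rw [add_mul, mul_add, hx a ha, ← mul_assoc, ← hx b hb]
  show y (c v + d (x v)) = (a + b * x) (c v + d (x v))
  rw [map_add, map_add]
  refine congrArg₂ (· + ·) (key c hcm) ?_
  calc y (d (x v)) = y ((d * x) v) := rfl
    _ = y ((x * d) v) := by rw [hx d hd]
    _ = x (y (d v)) := DFunLike.congr_fun hxy (d v)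
    _ = x ((a + b * x) (d v)) := by rw [key d hd]
    _ = (a + b * x) (x (d v)) := (DFunLike.congr_fun h3 (d v)).symm
    _ = (a + b * x) ((x * d) v) := rfl
    _ = (a + b * x) ((d * x) v) := by rw [hx d hd]
    _ = (a + b * x) (d (x v)) := rfl

end Planar

end Cfsg.Agent.Lib.Walter.Comb
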