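import Cfsg.Agent.Lib.Walter.Comb.Planar

/-!
# Two quadratic elements of a solvable group of odd order commute

In characteristic two, elements `1 + a e`, `1 + b f` with `e`, `f` idempotent and `a`, `b` scalars
commute as soon as they lie in a solvable group of odd order: on an irreducible piece the space is
spanned by `v, f v` over the field generated by `a`, `b`, `(e + f) ^ 2`.
-/

set_option autoImplicit false
set_option linter.style.haveILetI false

namespace Cfsg.Agent.Lib.Walter.Comb

open scoped commutatorElement

universe u

section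

variable {V : Type*} [AddCommGroup V] [Finite V]

omit [Finite V] in
theorem commute_of_affine {L : Subring (AddMonoid.End V)}
    (hc : ∀ a ∈ L, ∀ b ∈ L, a * b = b * a) {d x y a b a' b' : AddMonoid.End V}
    (hd : ∀ r ∈ L, r * d = d * r) (ha : a ∈ L) (hb : b ∈ L) (ha' : a' ∈ L) (hb' : b' ∈ L)
    (hx : x = a + b * d) (hy : y = a' + b' * d) : x * y = y * x := by
  have hA : ∀ p ∈ L, Commute p (a' + b' * d) := fun p hp =>
    (Commute.add_right (hc p hp a' ha')
      (Commute.mul_right (hc p hp b' hb') (hd p hp)))
  have hD : Commute d (a' + b' * d) :=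
    Commute.add_right (hd a' ha').symm (Commute.mul_right (hd b' hb').symm (Commute.refl d))
  rw [hx, hy]
  exact ((hA a ha).add_left ((hA b hb).mul_left hD)).eq

/-- A solvable group of odd order acting linearly on a space of dimension at most two over a field
of characteristic two is commutative. -/
theorem planar_comm (h2 : ∀ v : V, v + v = 0) {L : Subring (AddMonoid.End V)}
    (hc : ∀ a ∈ L, ∀ b ∈ L, a * b = b * a) (hinj : ∀ a ∈ L, a ≠ 0 → ∀ v, a v = 0 → v = 0)
    (hcard : Nat.card V ≤ Nat.card L ^ 2) (J : Subgroup (AddMonoid.End V)ˣ)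
    (hJo : Odd (Nat.card J)) [hJs : Group.IsSolvable J]
    (hJL : ∀ j ∈ J, ∀ a ∈ L, a * (j : AddMonoid.End V) = (j : AddMonoid.End V) * a) :
    ∀ x ∈ J, ∀ y ∈ J, x * y = y * x := by
  haveI := end_finite (V := V)
  suffices H : ∀ (n : ℕ) (K : Subgroup ↥J), Nat.card K ≤ n → ∀ x ∈ K, ∀ y ∈ K, x * y = y * x by
    intro x hx y hy
    exact congrArg Subtype.val
      (H _ ⊤ le_rfl ⟨x, hx⟩ (Subgroup.mem_top _) ⟨y, hy⟩ (Subgroup.mem_top _))
  intro n
  induction n with
  | zero => exact fun K hK => absurd hK (by
      have := Nat.card_pos (α := ↥K)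
      omega)
  | succ n ih =>
    intro K hK
    by_cases hbot : K = ⊥
    · subst hbot
      simp +contextual
    have hlt : ⁅K, K⁆ < K := Group.IsSolvable.commutator_lt_of_ne_bot hbot
    have hcomm : ∀ x ∈ ⁅K, K⁆, ∀ y ∈ ⁅K, K⁆, x * y = y * x := by
      refine ih _ ?_
      have h1 : Nat.card (⁅K, K⁆ : Subgroup ↥J) < Nat.card K :=
        lt_of_le_of_ne (Subgroup.card_le_of_le hlt.le)
          fun he => hlt.ne (Subgroup.eq_of_le_of_card_ge hlt.le he.ge)
      omega
    have hconjmem : ∀ j ∈ K, ∀ d ∈ ⁅K, K⁆, j * d * j⁻¹ ∈ ⁅K, K⁆ := by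
      intro j hj d hd
      have h1 : ⁅j, d⁆ ∈ ⁅K, K⁆ := Subgroup.commutator_mem_commutator hj (hlt.le hd)
      have h2 := mul_mem h1 hd
      rwa [commutatorElement_def, inv_mul_cancel_right] at h2
    let v : ↥J → AddMonoid.End V := fun j => ((j : (AddMonoid.End V)ˣ) : AddMonoid.End V)
    have v_mul : ∀ i j, v (i * j) = v i * v j := fun i j => rfl
    have v_one : v 1 = 1 := rfl
    have v_inj : Function.Injective v := fun i j h => Subtype.ext (Units.ext h)
    have v_inv : ∀ j, v j * v j⁻¹ = 1 ∧ v j⁻¹ * v j = 1 := fun j =>
      ⟨by rw [← v_mul, mul_inv_cancel, v_one], by rw [← v_mul, inv_mul_cancel, v_one]⟩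
    have v_comm : ∀ j, ∀ a ∈ L, a * v j = v j * a := fun j a ha => hJL _ j.2 a ha
    have v_sq : ∀ j : ↥J, v j * v j ∈ L → v j ∈ L := by
      intro j hj
      obtain ⟨m, hm⟩ := exists_sq_pow hJo j.2
      have h1 : v j = (v j * v j) ^ m := by
        have h3 := congrArg (fun u : (AddMonoid.End V)ˣ => (u : AddMonoid.End V)) hm
        simp only [Units.val_pow_eq_pow_val, pow_two] at h3
        exact h3.symm
      rw [h1]
      exact L.pow_mem hj m
    by_cases hscal : ∀ d ∈ ⁅K, K⁆, v d ∈ L
    · -- commutators are scalars
      intro x hx y hy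
      by_contra hne
      obtain hxL | ⟨w, hind, hspan⟩ := mem_or_cyclic hc hinj hcard (v_comm x)
      · exact hne (v_inj (by rw [v_mul, v_mul]; exact v_comm y _ hxL))
      obtain ⟨δ, hδm, hδ⟩ : ∃ δ ∈ L, v (y * x) = δ * v (x * y) :=
        ⟨v ⁅y, x⁆, hscal _ (Subgroup.commutator_mem_commutator hy hx), by
          rw [← v_mul]; congr 1; group⟩
      obtain ⟨N, hN, T, hT, hNT⟩ := hspan (v x (v x w))
      have hsq : v x * v x = N + T * v x := by
        refine AddMonoidHom.ext fun z => ?_
        obtain ⟨a, ha, b, hb, rfl⟩ := hspan z
        have key : ∀ e ∈ L, (v x * v x) (e w) = (N + T * v x) (e w) := by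
          intro e he
          have h1 : (v x * v x) * e = e * (v x * v x) :=
            ((Commute.mul_right (v_comm x e he) (v_comm x e he)).eq).symm
          have h3 : (N + T * v x) * e = e * (N + T * v x) :=
            ((Commute.add_right (hc e he N hN)
              (Commute.mul_right (hc e he T hT) (v_comm x e he))).eq).symm
          calc (v x * v x) (e w) = e ((v x * v x) w) := DFunLike.congr_fun h1 w
            _ = e ((N + T * v x) w) := by rw [show (v x * v x) w = (N + T * v x) w from hNT.symm]
            _ = (N + T * v x) (e w) := (DFunLike.congr_fun h3 w).symm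
        show (v x * v x) (a w + b (v x w)) = (N + T * v x) (a w + b (v x w))
        rw [map_add, map_add]
        refine congrArg₂ (· + ·) (key a ha) ?_
        have h4 : (N + T * v x) * v x = v x * (N + T * v x) := by
          rw [add_mul, mul_add, v_comm x N hN, ← mul_assoc (v x) T, ← v_comm x T hT]
        have h5 : ∀ e ∈ L, e (v x w) = v x (e w) := fun e he => DFunLike.congr_fun (v_comm x e he) w
        calc (v x * v x) (b (v x w)) = v x ((v x * v x) (b w)) := by rw [h5 b hb]; rfl
          _ = v x ((N + T * v x) (b w)) := by rw [key b hb]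
          _ = (N + T * v x) (v x (b w)) := (DFunLike.congr_fun h4 (b w)).symm
          _ = (N + T * v x) (b (v x w)) := by rw [h5 b hb]
      have hδ1 : δ * v x * v y = v y * v x := by rw [mul_assoc, ← v_mul, ← hδ, v_mul]
      -- conjugate `x ^ 2 = N + T x` by `y`
      have e1 : (δ * δ * N + δ * δ * T * v x) * v y = (N + T * δ * v x) * v y := by
        calc (δ * δ * N + δ * δ * T * v x) * v y = δ * δ * (v x * v x) * v y := by
              rw [hsq, mul_add, mul_assoc _ T]
          _ = δ * (δ * v x) * v x * v y := by simp only [mul_assoc]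
          _ = δ * v x * (δ * v x) * v y := by
              simp only [mul_assoc]
              rw [← mul_assoc (v x) δ, ← v_comm x δ hδm, mul_assoc δ (v x)]
          _ = δ * v x * (v y * v x) := by rw [mul_assoc (δ * v x), hδ1]
          _ = v y * v x * v x := by rw [← mul_assoc, hδ1]
          _ = v y * (N + T * v x) := by rw [mul_assoc, hsq]
          _ = N * v y + T * (v y * v x) := by
              rw [mul_add, ← v_comm y N hN, ← mul_assoc (v y) T, ← v_comm y T hT, mul_assoc T]
          _ = (N + T * δ * v x) * v y := by
              rw [← hδ1, add_mul]; simp only [mul_assoc]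
      have e2 : δ * δ * N + δ * δ * T * v x = N + T * δ * v x := by
        have := congrArg (fun z => z * v y⁻¹) e1
        simpa only [mul_assoc, (v_inv y).1, mul_one] using this
      obtain ⟨-, e3⟩ := hind (δ * δ * N - N) (L.sub_mem (L.mul_mem (L.mul_mem hδm hδm) hN) hN)
        (δ * δ * T - T * δ) (L.sub_mem (L.mul_mem (L.mul_mem hδm hδm) hT) (L.mul_mem hT hδm)) (by
          have := DFunLike.congr_fun e2 w
          show (δ * δ * N) w - N w + ((δ * δ * T) (v x w) - (T * δ) (v x w)) = 0
          rw [sub_add_sub_comm, sub_eq_zero]
          exact this)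
      have hδ0 : δ ≠ 0 := by
        intro h0
        have h6 : v y * v x = 0 := by rw [← hδ1, h0, zero_mul, zero_mul]
        have h7 : (1 : AddMonoid.End V) = 0 := by
          rw [← v_one, ← inv_mul_cancel (y * x), v_mul, v_mul, h6, mul_zero]
        have h8 : v x = 0 := by rw [← one_mul (v x), h7, zero_mul]
        exact hne (v_inj (by rw [v_mul, v_mul, h8, zero_mul, mul_zero]))
      have hT0 : T = 0 := by
        by_contra hT0
        obtain ⟨δ', hδ', hδl, -⟩ := exists_inv_mem L hδm (hinj δ hδm hδ0)
        obtain ⟨T', hT', hTl, -⟩ := exists_inv_mem L hT (hinj T hT hT0)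
        have h9 : δ * δ * T = δ * T := by rw [sub_eq_zero.1 e3, hc T hT δ hδm]
        have h10 : δ = 1 := by
          have := congrArg (fun z => T' * (δ' * z)) h9
          simp only [← mul_assoc, hδl, one_mul] at this
          rwa [mul_assoc T', hc δ hδm T hT, ← mul_assoc, hTl, one_mul] at this
        exact hne (v_inj (by rw [v_mul, v_mul, ← hδ1, h10, one_mul]))
      have hxL : v x ∈ L := v_sq x (by rw [hsq, hT0, zero_mul, add_zero]; exact hN)
      exact hne (v_inj (by rw [v_mul, v_mul]; exact v_comm y _ hxL))
    · push Not at hscal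
      obtain ⟨d, hd, hdL⟩ := hscal
      obtain ⟨w, hind, hspan⟩ := (mem_or_cyclic hc hinj hcard (v_comm d)).resolve_left hdL
      have hfix : ∀ j ∈ K, j * d = d * j := by
        intro j hj
        obtain ⟨N, hN, T, hT, hsq⟩ := eq_of_cyclic (x := v d) (y := v d * v d) hspan (v_comm d)
          (fun a ha => (Commute.mul_right (v_comm d a ha) (v_comm d a ha)).eq) hc
          (mul_assoc _ _ _)
        have hT0 : T ≠ 0 := fun h0 => hdL (v_sq d (by rw [hsq, h0, zero_mul, add_zero]; exact hN))
        -- the conjugates of `d` are roots of the same quadratic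
        have hroot : ∀ i ∈ K, v (i * d * i⁻¹) = v d ∨ v (i * d * i⁻¹) = T + v d := by
          intro i hi
          set y := i * d * i⁻¹ with hy
          have hyd : v y * v d = v d * v y := by
            rw [← v_mul, ← v_mul, hcomm y (hconjmem i hi d hd) d hd]
          obtain ⟨a, ha, b, hb, hab⟩ := eq_of_cyclic hspan (v_comm d) (v_comm y) hc hyd
          have hysq : v y * v y = N + T * v y := by
            have hmv : v y = v i * v d * v i⁻¹ := by rw [hy, v_mul, v_mul]
            calc v y * v y = v i * (v d * v d) * v i⁻¹ := by
                  rw [← v_mul, ← v_mul, ← v_mul, ← v_mul, hy]; congr 1; group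
              _ = v i * N * v i⁻¹ + v i * T * v d * v i⁻¹ := by
                  rw [hsq, mul_add, add_mul, ← mul_assoc (v i) T]
              _ = N + T * v y := by
                  rw [← v_comm i N hN, mul_assoc N, (v_inv i).1, mul_one, ← v_comm i T hT,
                    mul_assoc T, mul_assoc T, hmv]
          have hcross : a * (b * v d) + b * v d * a = 0 := by
            have : a * (b * v d) = b * v d * a :=
              (Commute.mul_right (hc a ha b hb) (v_comm d a ha)).eq
            rw [this]; exact end_add_self h2 _
          have h3 : (a * a + b * b * N - (N + T * a)) + (b * b * T - T * b) * v d = 0 := by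
            have l1 : v y * v y = a * a + b * b * (v d * v d) := by
              rw [hab, add_mul, mul_add, mul_add, add_assoc (a * a), ← add_assoc (a * (b * v d)),
                hcross, zero_add]
              congr 1
              rw [mul_assoc b (v d) (b * v d), ← mul_assoc (v d) b, ← v_comm d b hb]
              simp only [mul_assoc]
            rw [hsq, hysq, hab, mul_add (b * b), ← mul_assoc (b * b), mul_add T, ← mul_assoc T]
              at l1
            rw [sub_mul]
            calc a * a + b * b * N - (N + T * a) + (b * b * T * v d - T * b * v d)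
                = (a * a + (b * b * N + b * b * T * v d)) - (N + (T * a + T * b * v d)) := by abel
              _ = 0 := by rw [sub_eq_zero]; exact l1.symm
          obtain ⟨hA, hB⟩ := hind _ (L.sub_mem (L.add_mem (L.mul_mem ha ha)
              (L.mul_mem (L.mul_mem hb hb) hN)) (L.add_mem hN (L.mul_mem hT ha))) _
              (L.sub_mem (L.mul_mem (L.mul_mem hb hb) hT) (L.mul_mem hT hb))
              (DFunLike.congr_fun h3 w)
          have hb1 : b = 1 := by
            by_cases hb0 : b = 0
            · exfalso
              rw [hb0, zero_mul, add_zero] at hab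
              refine hdL ?_
              have : v d = v i⁻¹ * a * v i := by
                rw [← hab, ← v_mul, ← v_mul, hy]; congr 1; group
              rw [this, ← v_comm i⁻¹ a ha, mul_assoc, (v_inv i).2, mul_one]
              exact ha
            obtain ⟨b', hb', hbl, -⟩ := exists_inv_mem L hb (hinj b hb hb0)
            obtain ⟨T', hT', hTl, -⟩ := exists_inv_mem L hT (hinj T hT hT0)
            have h9 : b * b * T = b * T := by rw [sub_eq_zero.1 hB, hc T hT b hb]
            have := congrArg (fun z => T' * (b' * z)) h9
            simp only [← mul_assoc, hbl, one_mul] at this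
            rwa [mul_assoc T', hc b hb T hT, ← mul_assoc, hTl, one_mul] at this
          subst hb1
          rw [one_mul, one_mul] at hA
          rw [one_mul] at hab
          have ha2 : a * a = T * a := by
            have h4 : a * a + N - (N + T * a) = a * a - T * a := by abel
            rw [h4] at hA
            exact sub_eq_zero.1 hA
          by_cases ha0 : a = 0
          · left; rw [hab, ha0, zero_add]
          · right
            obtain ⟨a', ha', hal, har⟩ := exists_inv_mem L ha (hinj a ha ha0)
            have : a = T := by
              have := congrArg (fun z => z * a') ha2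
              simpa only [mul_assoc, har, mul_one] using this
            rw [hab, this]
        have h2j : j * j * d * (j * j)⁻¹ = d := by
          rcases hroot j hj with h | h
          · have h' : j * d * j⁻¹ = d := v_inj h
            rw [mul_inv_rev, show j * j * d * (j⁻¹ * j⁻¹) = j * (j * d * j⁻¹) * j⁻¹ by group, h',
              h']
          · refine v_inj ?_
            rw [show j * j * d * (j * j)⁻¹ = j * (j * d * j⁻¹) * j⁻¹ by group, v_mul, v_mul, h,
              mul_add, add_mul, ← v_comm j T hT, mul_assoc T, (v_inv j).1, mul_one, ← v_mul,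
              ← v_mul, h, ← add_assoc, end_add_self h2, zero_add]
        obtain ⟨m, hm⟩ := exists_sq_pow hJo j.2
        have hm' : (j * j) ^ m = j := Subtype.ext (by rw [← pow_two]; simpa using hm)
        have hcd : Commute (j * j) d := mul_inv_eq_iff_eq_mul.1 h2j
        rw [← hm']
        exact (hcd.pow_left m).eq
      intro x hx y hy
      obtain ⟨a, ha, b, hb, hab⟩ := eq_of_cyclic hspan (v_comm d) (v_comm x) hc
        (by rw [← v_mul, ← v_mul, hfix x hx])
      obtain ⟨a', ha', b', hb', hab'⟩ := eq_of_cyclic hspan (v_comm d) (v_comm y) hc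
        (by rw [← v_mul, ← v_mul, hfix y hy])
      exact v_inj (by rw [v_mul, v_mul]; exact commute_of_affine hc (v_comm d) ha hb ha' hb' hab hab')

end

end Cfsg.Agent.Lib.Walter.Comb
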