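import Cfsg.Agent.Lib.Walter.Comb.Planar

/-!
# Irreducible groups of odd order with a transitive element on a summand
-/

set_option autoImplicit false
set_option linter.style.haveILetI false

namespace Cfsg.Agent.Lib.Walter.Comb

variable {V : Type*} [AddCommGroup V]

/-- An irreducible group of odd order of automorphisms of an elementary abelian 2-group. -/
structure Irr (G : Subgroup (AddMonoid.End V)ˣ) : Prop where
  two : ∀ v : V, v + v = 0
  odd : Odd (Nat.card G)
  irr : ∀ U : AddSubgroup V, (∀ g ∈ G, ∀ v ∈ U, (g : AddMonoid.End V) v ∈ U) → U = ⊥ ∨ U = ⊤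

/-- `t` fixes `Q` and is transitive on the non-zero elements of a complement `W`. -/
structure IsTor (t : (AddMonoid.End V)ˣ) (W Q : AddSubgroup V) : Prop where
  fix : ∀ q ∈ Q, (t : AddMonoid.End V) q = q
  maps : ∀ w ∈ W, (t : AddMonoid.End V) w ∈ W
  trans : ∀ x ∈ W, x ≠ 0 → ∀ y ∈ W, y ≠ 0 → ∃ j : ℕ, ((t : AddMonoid.End V) ^ j) x = y
  disj : ∀ v ∈ W, v ∈ Q → v = 0
  span : ∀ v : V, ∃ w ∈ W, ∃ q ∈ Q, w + q = v
  four : 4 ≤ Nat.card W
  Qne : ∃ q ∈ Q, q ≠ 0

/-- Conjugation in the endomorphism ring. -/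
def cj (g : (AddMonoid.End V)ˣ) (x : AddMonoid.End V) : AddMonoid.End V :=
  (g : AddMonoid.End V) * x * (↑g⁻¹ : AddMonoid.End V)

theorem cj_one (x : AddMonoid.End V) : cj 1 x = x := by
  rw [cj, inv_one, Units.val_one, one_mul, mul_one]

theorem cj_mul (g h : (AddMonoid.End V)ˣ) (x : AddMonoid.End V) :
    cj (g * h) x = cj g (cj h x) := by
  simp only [cj, Units.val_mul, mul_inv_rev, mul_assoc]

theorem cj_map_mul (g : (AddMonoid.End V)ˣ) (x y : AddMonoid.End V) :
    cj g (x * y) = cj g x * cj g y := by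
  simp only [cj, mul_assoc, Units.inv_mul_cancel_left]

theorem cj_add (g : (AddMonoid.End V)ˣ) (x y : AddMonoid.End V) :
    cj g (x + y) = cj g x + cj g y := by
  simp only [cj, mul_add, add_mul]

theorem cj_map_one (g : (AddMonoid.End V)ˣ) : cj g (1 : AddMonoid.End V) = 1 := by
  rw [cj, mul_one, Units.mul_inv]

theorem cj_map_zero (g : (AddMonoid.End V)ˣ) : cj g (0 : AddMonoid.End V) = 0 := by
  rw [cj, mul_zero, zero_mul]

theorem cj_inj (g : (AddMonoid.End V)ˣ) : Function.Injective (cj g) := fun x y h => by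
  have h1 := congrArg (cj g⁻¹) h
  rwa [← cj_mul, ← cj_mul, inv_mul_cancel, cj_one, cj_one] at h1

theorem cj_apply (g : (AddMonoid.End V)ˣ) (x : AddMonoid.End V) (v : V) :
    cj g x ((g : AddMonoid.End V) v) = (g : AddMonoid.End V) (x v) := by
  show (g : AddMonoid.End V) (x ((↑g⁻¹ : AddMonoid.End V) ((g : AddMonoid.End V) v))) = _
  rw [show (↑g⁻¹ : AddMonoid.End V) ((g : AddMonoid.End V) v) = v from
    DFunLike.congr_fun g.inv_mul v]

theorem cj_eq_iff (g : (AddMonoid.End V)ˣ) (x : AddMonoid.End V) :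
    cj g x = x ↔ x * (g : AddMonoid.End V) = (g : AddMonoid.End V) * x := by
  rw [cj, Units.mul_inv_eq_iff_eq_mul, eq_comm]

namespace IsTor

variable {t : (AddMonoid.End V)ˣ} {W Q : AddSubgroup V}

theorem exists_third (h : IsTor t W Q) (a : V) : ∃ y ∈ W, y ≠ 0 ∧ y ≠ a := by
  by_contra hne
  push Not at hne
  have hsub : (W : Set V) ⊆ {0, a} := fun y hy => (em (y = 0)).imp id (hne y hy)
  have h1 := Set.ncard_le_ncard hsub
  have h2 : Set.ncard ({0, a} : Set V) ≤ 2 := (Set.ncard_insert_le _ _).trans (by simp)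
  have h3 := h.four
  rw [← SetLike.coe_sort_coe, Nat.card_coe_set_eq] at h3
  omega

theorem pow_fix {x : AddMonoid.End V} {v : V} (hx : x v = v) : ∀ m : ℕ, (x ^ m) v = v
  | 0 => rfl
  | m + 1 => by
    rw [pow_succ]
    show (x ^ m) (x v) = v
    rw [hx, pow_fix hx m]

theorem eq_zero_of_fixed (h : IsTor t W Q) {w : V} (hw : w ∈ W)
    (hf : (t : AddMonoid.End V) w = w) : w = 0 := by
  by_contra h0
  obtain ⟨y, hy, hy0, hyw⟩ := h.exists_third w
  obtain ⟨j, hj⟩ := h.trans w hw h0 y hy hy0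
  exact hyw (by rw [← hj, pow_fix hf j])

theorem mem_Q (h : IsTor t W Q) {v : V} (hv : (t : AddMonoid.End V) v = v) : v ∈ Q := by
  obtain ⟨w, hw, q, hq, rfl⟩ := h.span v
  rw [map_add, h.fix q hq, add_left_inj] at hv
  rw [h.eq_zero_of_fixed hw hv, zero_add]
  exact hq

theorem diff_mem (h : IsTor t W Q) (v : V) : (t : AddMonoid.End V) v - v ∈ W := by
  obtain ⟨w, hw, q, hq, rfl⟩ := h.span v
  rw [map_add, h.fix q hq, add_sub_add_right_eq_sub]
  exact W.sub_mem (h.maps w hw) hw

theorem pow_maps (h : IsTor t W Q) {w : V} (hw : w ∈ W) :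
    ∀ m : ℕ, ((t : AddMonoid.End V) ^ m) w ∈ W
  | 0 => hw
  | m + 1 => by rw [pow_succ']; exact h.maps _ (h.pow_maps hw m)

/-- An endomorphism commuting with `t` maps `W` into itself. -/
theorem map_W [Finite V] (h : IsTor t W Q) {r : AddMonoid.End V}
    (hr : r * (t : AddMonoid.End V) = (t : AddMonoid.End V) * r) {w : V} (hw : w ∈ W) :
    r w ∈ W := by
  let f : W → W := fun y => ⟨(t : AddMonoid.End V) y - y, W.sub_mem (h.maps y y.2) y.2⟩
  have hf : Function.Injective f := by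
    intro a b hab
    have h1 : (t : AddMonoid.End V) (a : V) - a = (t : AddMonoid.End V) b - b :=
      congrArg Subtype.val hab
    refine Subtype.ext (sub_eq_zero.1 (h.eq_zero_of_fixed (W.sub_mem a.2 b.2) ?_))
    rw [map_sub]
    exact sub_eq_sub_iff_sub_eq_sub.1 h1
  obtain ⟨y, hy⟩ := Finite.surjective_of_injective hf ⟨w, hw⟩
  rw [show w = (t : AddMonoid.End V) (y : V) - y from (congrArg Subtype.val hy).symm, map_sub,
    show r ((t : AddMonoid.End V) (y : V)) = (t : AddMonoid.End V) (r y) from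
      DFunLike.congr_fun hr y.1]
  exact h.diff_mem _

/-- Two endomorphisms agree if they agree on `W` and on `Q`. -/
theorem end_ext (h : IsTor t W Q) {x y : AddMonoid.End V} (hW : ∀ w ∈ W, x w = y w)
    (hQ : ∀ q ∈ Q, x q = y q) : x = y := by
  refine AddMonoidHom.ext fun v => ?_
  obtain ⟨w, hw, q, hq, rfl⟩ := h.span v
  show x (w + q) = y (w + q)
  rw [map_add, map_add, hW w hw, hQ q hq]

theorem exists_ne_zero (h : IsTor t W Q) : ∃ w ∈ W, w ≠ 0 := by
  obtain ⟨y, hy, hy0, -⟩ := h.exists_third 0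
  exact ⟨y, hy, hy0⟩

end IsTor

/-- A commutative subring generated by commuting elements. -/
theorem closure_comm {R : Type*} [Ring R] {s : Set R} (hs : ∀ a ∈ s, ∀ b ∈ s, a * b = b * a) :
    ∀ p ∈ Subring.closure s, ∀ q ∈ Subring.closure s, p * q = q * p := by
  have h1 : Subring.closure s ≤ Subring.centralizer s :=
    Subring.closure_le.2 fun x hx => Subring.mem_centralizer_iff.2 fun g hg => hs g hg x hx
  have h2 : Subring.closure s ≤ Subring.centralizer (Subring.closure s : Set R) :=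
    Subring.closure_le.2 fun x hx => Subring.mem_centralizer_iff.2 fun g hg =>
      ((Subring.mem_centralizer_iff.1 (h1 hg)) x hx).symm
  exact fun p hp q hq => Subring.mem_centralizer_iff.1 (h2 hq) p hp

/-- The ring generated by a group of automorphisms. -/
def alg (A : Subgroup (AddMonoid.End V)ˣ) : Subring (AddMonoid.End V) :=
  Subring.closure ((fun a : (AddMonoid.End V)ˣ => (a : AddMonoid.End V)) '' (A : Set _))

theorem mem_alg {A : Subgroup (AddMonoid.End V)ˣ} {a : (AddMonoid.End V)ˣ} (ha : a ∈ A) :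
    (a : AddMonoid.End V) ∈ alg A :=
  Subring.subset_closure ⟨a, ha, rfl⟩

theorem alg_mono {A B : Subgroup (AddMonoid.End V)ˣ} (h : A ≤ B) : alg A ≤ alg B :=
  Subring.closure_mono (Set.image_mono h)

theorem alg_comm {A : Subgroup (AddMonoid.End V)ˣ} (hA : ∀ a ∈ A, ∀ b ∈ A, a * b = b * a) :
    ∀ p ∈ alg A, ∀ q ∈ alg A, p * q = q * p :=
  closure_comm fun _ ⟨a, ha, ha'⟩ _ ⟨b, hb, hb'⟩ => by
    rw [← ha', ← hb']; exact congrArg Units.val (hA a ha b hb)

theorem cj_mem_alg {A : Subgroup (AddMonoid.End V)ˣ} {g : (AddMonoid.End V)ˣ}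
    (hg : ∀ a ∈ A, g * a * g⁻¹ ∈ A) {r : AddMonoid.End V} (hr : r ∈ alg A) :
    cj g r ∈ alg A := by
  induction hr using Subring.closure_induction with
  | mem z hz =>
    obtain ⟨a, ha, rfl⟩ := hz
    exact Subring.subset_closure ⟨g * a * g⁻¹, hg a ha, by simp [cj, mul_assoc]⟩
  | zero => rw [cj_map_zero]; exact zero_mem _
  | one => rw [cj_map_one]; exact one_mem _
  | add p q _ _ hp hq => rw [cj_add]; exact add_mem hp hq
  | neg p _ hp => rw [show cj g (-p) = -cj g p by simp [cj]]; exact neg_mem hp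
  | mul p q _ _ hp hq => rw [cj_map_mul]; exact mul_mem hp hq

end Cfsg.Agent.Lib.Walter.Comb
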