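import Cfsg.Agent.Lib.Walter.Basic
import Cfsg.Agent.Lib.Walter.Comb.Eight
import Cfsg.Agent.Lib.Walter.Comb.Dichotomy
import Mathlib.GroupTheory.Perm.Cycle.Type

/-!
# The normaliser of a Sylow subgroup as a linear group on `Ω₁(S)`
-/

set_option autoImplicit false
set_option linter.style.haveILetI false

namespace Cfsg.Agent.Lib.Walter.Comb

open Subgroup
open scoped IsMulCommutative

universe u

variable {G : Type u} [Group G]

/-- Elements commuting: a supremum is the product. -/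
theorem mem_sup_comm {A H K : Subgroup G} (hA : ∀ a ∈ A, ∀ b ∈ A, a * b = b * a) (hH : H ≤ A)
    (hK : K ≤ A) {x : G} (hx : x ∈ H ⊔ K) : ∃ h ∈ H, ∃ k ∈ K, x = h * k := by
  rw [Subgroup.sup_eq_closure] at hx
  induction hx using Subgroup.closure_induction with
  | mem z hz =>
    rcases hz with hz | hz
    · exact ⟨z, hz, 1, one_mem K, (mul_one z).symm⟩
    · exact ⟨1, one_mem H, z, hz, (one_mul z).symm⟩
  | one => exact ⟨1, one_mem H, 1, one_mem K, (mul_one 1).symm⟩
  | mul a b _ _ ha hb =>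
    obtain ⟨h, hh, k, hk, rfl⟩ := ha
    obtain ⟨h', hh', k', hk', rfl⟩ := hb
    exact ⟨h * h', mul_mem hh hh', k * k', mul_mem hk hk', by
      rw [mul_assoc, ← mul_assoc k, hA k (hK hk) h' (hH hh'), mul_assoc h' k, ← mul_assoc h]⟩
  | inv a _ ha =>
    obtain ⟨h, hh, k, hk, rfl⟩ := ha
    exact ⟨h⁻¹, inv_mem hh, k⁻¹, inv_mem hk, by
      rw [mul_inv_rev, hA k⁻¹ (inv_mem (hK hk)) h⁻¹ (inv_mem (hH hh))]⟩

/-- The additive group on `A`. -/
abbrev Sp (A : Subgroup G) : Type u := Additive ↥A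

/-- A subgroup inside the additive group. -/
def sub (A W : Subgroup G) : AddSubgroup (Sp A) := (W.subgroupOf A).toAddSubgroup

theorem mem_sub {A W : Subgroup G} {v : Sp A} :
    v ∈ sub A W ↔ ((Additive.toMul v : ↥A) : G) ∈ W := Iff.rfl

theorem card_sub {A W : Subgroup G} (h : W ≤ A) : Nat.card (sub A W) = Nat.card W :=
  Nat.card_congr (Subgroup.subgroupOfEquivOfLe h).toEquiv

variable {S : Sylow 2 G} (hS : IsMulCommutative (S : Subgroup G))

include hS in
/-- `Ω₁(S)` is commutative. -/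
theorem isMulCommutative_Om : IsMulCommutative ↥(Om S) :=
  ⟨⟨fun a b => Subtype.ext (comm_Om hS (Om_le S a.2) (Om_le S b.2))⟩⟩

variable [IsMulCommutative ↥(Om S)]

/-- The endomorphism of `Ω₁(S)` given by conjugation. -/
def conjEnd : ↥(normalizer ((S : Subgroup G) : Set G)) →* AddMonoid.End (Sp (Om S)) where
  toFun n := MonoidHom.toAdditive
    { toFun := fun x : ↥(Om S) => (⟨(n : G) * x * (n : G)⁻¹, conj_mem_Om hS n.2 x.2⟩ : ↥(Om S))
      map_one' := Subtype.ext (by simp)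
      map_mul' := fun x y => Subtype.ext (by simp [mul_assoc]) }
  map_one' := AddMonoidHom.ext fun x => Subtype.ext (by
    show (1 : G) * _ * (1 : G)⁻¹ = _
    rw [inv_one, mul_one, one_mul]; rfl)
  map_mul' m n := AddMonoidHom.ext fun x => Subtype.ext (by
    show (m : G) * n * ((Additive.toMul x : ↥(Om S)) : G) * ((m : G) * n)⁻¹ = (m : G) *
      ((n : G) * ((Additive.toMul x : ↥(Om S)) : G) * (n : G)⁻¹) * (m : G)⁻¹
    group)

/-- The action as a homomorphism into units. -/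
def act : ↥(normalizer ((S : Subgroup G) : Set G)) →* (AddMonoid.End (Sp (Om S)))ˣ :=
  (conjEnd hS).toHomUnits

theorem act_apply (n : ↥(normalizer ((S : Subgroup G) : Set G))) (v : Sp (Om S)) :
    ((Additive.toMul ((act hS n : AddMonoid.End (Sp (Om S))) v) : ↥(Om S)) : G) =
      (n : G) * ((Additive.toMul v : ↥(Om S)) : G) * (n : G)⁻¹ := rfl

/-- The linear group. -/
abbrev lin : Subgroup (AddMonoid.End (Sp (Om S)))ˣ := (act hS).range

include hS in
theorem two_Sp (v : Sp (Om S)) : v + v = 0 :=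
  show Additive.ofMul (Additive.toMul v * Additive.toMul v) = Additive.ofMul 1 from
    congrArg _ (Subtype.ext (sq_Om hS (Additive.toMul v).2))

variable [Finite G]

theorem irr_lin (hI : Irreducible S) (hO : OddAction S) : Irr (lin hS) := by
  refine ⟨two_Sp hS, ?_, fun U hU => ?_⟩
  · rw [← Nat.not_even_iff_odd]
    intro heven
    haveI := end_finite (V := Sp (Om S))
    haveI : Fact (Nat.Prime 2) := ⟨Nat.prime_two⟩
    obtain ⟨⟨_, n, rfl⟩, hu⟩ := exists_prime_orderOf_dvd_card' (G := ↥(lin hS)) 2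
      (even_iff_two_dvd.1 heven)
    obtain ⟨m, hm, htriv⟩ := hO n n.2
    have h1 : (act hS n) ^ m = 1 := by
      rw [← map_pow]
      refine Units.ext (AddMonoidHom.ext fun v => ?_)
      refine Additive.toMul.injective (Subtype.ext ?_)
      show ((n ^ m : ↥(normalizer ((S : Subgroup G) : Set G))) : G) * _ * _ = _
      rw [SubmonoidClass.coe_pow]
      exact htriv _ (Om_le S (Additive.toMul v).2)
    have h2 : orderOf (act hS n) = 2 :=
      (Subgroup.orderOf_coe (⟨act hS n, ⟨n, rfl⟩⟩ : ↥(lin hS))).trans hu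
    have := orderOf_dvd_of_pow_eq_one h1
    rw [h2] at this
    exact Nat.not_even_iff_odd.2 hm (even_iff_two_dvd.2 this)
  · set U₀ : Subgroup ↥(Om S) := AddSubgroup.toSubgroup' U with hU₀
    have hinv : ∀ n ∈ normalizer ((S : Subgroup G) : Set G), ∀ x ∈ U₀.map (Om S).subtype,
        n * x * n⁻¹ ∈ U₀.map (Om S).subtype := by
      rintro n hn _ ⟨x, hx, rfl⟩
      exact ⟨Additive.toMul ((act hS ⟨n, hn⟩ : AddMonoid.End (Sp (Om S))) (Additive.ofMul x)),
        hU _ ⟨⟨n, hn⟩, rfl⟩ _ hx, rfl⟩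
    rcases hI _ (Subgroup.map_subtype_le _) hinv with h | h
    · left
      rw [AddSubgroup.eq_bot_iff_forall]
      intro v hv
      have : ((Additive.toMul v : ↥(Om S)) : G) ∈ U₀.map (Om S).subtype := ⟨_, hv, rfl⟩
      rw [h, Subgroup.mem_bot] at this
      exact Additive.toMul.injective (Subtype.ext this)
    · right
      rw [AddSubgroup.eq_top_iff']
      intro v
      have : ((Additive.toMul v : ↥(Om S)) : G) ∈ U₀.map (Om S).subtype := by
        rw [h]; exact (Additive.toMul v).2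
      obtain ⟨x, hx, he⟩ := this
      rw [Subtype.ext (a1 := x) (a2 := Additive.toMul v) he] at hx
      exact hx

/-- A torus of a pair gives a torus element. -/
theorem isTor_of_pair {P : Subgroup G → Subgroup G → Subgroup G → Prop} (hP : PairSystem S P)
    {B W Q : Subgroup G} (h : P B W Q) :
    ∃ t ∈ lin hS, IsTor t (sub (Om S) W) (sub (Om S) Q) := by
  obtain ⟨n, hn, hfix, hmaps, htr⟩ := hP.torus B W Q h
  have hWA := hP.W_le B W Q h
  have hQA := hP.Q_le B W Q h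
  refine ⟨act hS ⟨n, hn⟩, ⟨_, rfl⟩, ?_, ?_, ?_, ?_, ?_, ?_, ?_⟩
  · intro q hq
    exact Additive.toMul.injective (Subtype.ext (hfix _ hq))
  · intro w hw
    exact hmaps _ hw
  · intro x hx hx0 y hy hy0
    have key : ∀ v : Sp (Om S), v ≠ 0 → ((Additive.toMul v : ↥(Om S)) : G) ≠ 1 := fun v hv h1 =>
      hv (Additive.toMul.injective (Subtype.ext h1))
    obtain ⟨k, hk⟩ := htr _ hx (key x hx0) _ hy (key y hy0)
    refine ⟨k, Additive.toMul.injective (Subtype.ext ?_)⟩
    rw [← Units.val_pow_eq_pow_val, ← map_pow, act_apply, SubmonoidClass.coe_pow]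
    exact hk
  · intro v hv hv'
    have : ((Additive.toMul v : ↥(Om S)) : G) ∈ W ⊓ Q := ⟨hv, hv'⟩
    rw [hP.disj B W Q h, Subgroup.mem_bot] at this
    exact Additive.toMul.injective (Subtype.ext this)
  · intro v
    have hm : ((Additive.toMul v : ↥(Om S)) : G) ∈ W ⊔ Q :=
      (hP.span B W Q h).symm ▸ (Additive.toMul v).2
    obtain ⟨w, hw, q, hq, hwq⟩ := mem_sup_comm (A := Om S)
      (fun a ha b hb => comm_Om hS (Om_le S ha) (Om_le S hb)) hWA hQA hm
    exact ⟨Additive.ofMul (⟨w, hWA hw⟩ : ↥(Om S)), hw, Additive.ofMul (⟨q, hQA hq⟩ : ↥(Om S)), hq,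
      Additive.toMul.injective (Subtype.ext hwq.symm)⟩
  · rw [card_sub hWA]
    exact hP.four_le B W Q h
  · have hB : B ≠ ⊥ := hP.base_ne B W Q h
    obtain ⟨b, hb, hb1⟩ := Subgroup.ne_bot_iff_exists_ne_one.1 hB |> fun ⟨b, hb⟩ =>
      (⟨(b : G), b.2, fun h1 => hb (Subtype.ext h1)⟩ : ∃ b ∈ B, b ≠ 1)
    exact ⟨Additive.ofMul (⟨b, hQA (hP.le_Q B W Q h hb)⟩ : ↥(Om S)), hP.le_Q B W Q h hb,
      fun h0 => hb1 (congrArg (fun z : Sp (Om S) => ((Additive.toMul z : ↥(Om S)) : G)) h0)⟩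

include hS in
/-- Two pairs: either `|Ω₁(S)| = 8` or their second parts meet. -/
theorem pair_inter {P : Subgroup G → Subgroup G → Subgroup G → Prop} (hI : Irreducible S)
    (hO : OddAction S) (hP : PairSystem S P) (h8 : Nat.card ↥(Om S) ≠ 8)
    {B W Q B' W' Q' : Subgroup G} (h : P B W Q) (h' : P B' W' Q') :
    ∃ q ∈ Q, q ∈ Q' ∧ q ≠ 1 := by
  obtain ⟨t, ht, hT⟩ := isTor_of_pair hS hP h
  obtain ⟨t', ht', hT'⟩ := isTor_of_pair hS hP h'
  rcases inter_or_eight (irr_lin hS hI hO) ht hT ht' hT' with h0 | ⟨v, hv, hv', hv0⟩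
  · exact absurd ((Nat.card_congr Additive.ofMul).trans h0) h8
  · exact ⟨_, hv, hv', fun h1 => hv0 (Additive.toMul.injective (Subtype.ext h1))⟩

include hS in
/-- The case of order eight. -/
theorem eight {P : Subgroup G → Subgroup G → Subgroup G → Prop} (hI : Irreducible S)
    (hO : OddAction S) (hP : PairSystem S P) (h8 : Nat.card ↥(Om S) = 8)
    {B W Q : Subgroup G} (h : P B W Q) :
    Nat.card W = 4 ∧ Nat.card Q = 2 ∧ ∀ a ∈ Om S, a ≠ 1 → ∀ b ∈ Om S, b ≠ 1 →
      ∃ n ∈ normalizer ((S : Subgroup G) : Set G), n * a * n⁻¹ = b := by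
  obtain ⟨t, ht, hT⟩ := isTor_of_pair hS hP h
  have h8' : Nat.card (Sp (Om S)) = 8 := (Nat.card_congr Additive.ofMul).symm.trans h8
  obtain ⟨hW, hQ⟩ := hT.card_of_eight h8'
  rw [card_sub (hP.W_le B W Q h)] at hW
  rw [card_sub (hP.Q_le B W Q h)] at hQ
  refine ⟨hW, hQ, fun a ha ha1 b hb hb1 => ?_⟩
  obtain ⟨_, ⟨n, rfl⟩, hn⟩ := trans_of_eight (irr_lin hS hI hO) ht hT h8'
    (x := Additive.ofMul (⟨a, ha⟩ : ↥(Om S))) (y := Additive.ofMul (⟨b, hb⟩ : ↥(Om S)))
    (fun h0 => ha1 (congrArg (fun z : Sp (Om S) => ((Additive.toMul z : ↥(Om S)) : G)) h0))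
    (fun h0 => hb1 (congrArg (fun z : Sp (Om S) => ((Additive.toMul z : ↥(Om S)) : G)) h0))
  exact ⟨n, n.2, congrArg (fun z : Sp (Om S) => ((Additive.toMul z : ↥(Om S)) : G)) hn⟩

end Cfsg.Agent.Lib.Walter.Comb
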